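import Mathlib

set_option autoImplicit false
universe u

namespace Groth.Agent.H5.CF

section
variable {B : Type*} [CommRing B] (𝔫 : Ideal B) {M : Type*} [AddCommGroup M] [Module B M]
  {d : ℕ} (s : Fin d → M)

/-- approximation step: an element of `𝔫^j M` is, modulo `𝔫^(j+1) M`, a combination of the
generators with coefficients in `𝔫^j`. -/
theorem exists_approx
    (h1 : LinearMap.range (Fintype.linearCombination B s) ⊔ 𝔫 • (⊤ : Submodule B M) = ⊤)
    (j : ℕ) (m : M) (hm : m ∈ (𝔫 ^ j) • (⊤ : Submodule B M)) :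
    ∃ δ : Fin d → B, (∀ i, δ i ∈ 𝔫 ^ j) ∧
      m - Fintype.linearCombination B s δ ∈ (𝔫 ^ (j + 1)) • (⊤ : Submodule B M) := by
  refine Submodule.smul_induction_on hm ?_ ?_
  · intro a ha n _
    have hn : n ∈ LinearMap.range (Fintype.linearCombination B s) ⊔ 𝔫 • (⊤ : Submodule B M) := by
      rw [h1]; trivial
    obtain ⟨y, ⟨x, rfl⟩, z, hz, rfl⟩ := Submodule.mem_sup.mp hn
    refine ⟨a • x, fun i => ?_, ?_⟩
    · show a * x i ∈ 𝔫 ^ j
      exact Ideal.mul_mem_right _ _ ha
    · rw [map_smul, smul_add, add_sub_cancel_left, pow_succ, Submodule.mul_smul]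
      exact Submodule.smul_mem_smul ha hz
  · intro m₁ m₂ ⟨δ₁, h₁, h₁'⟩ ⟨δ₂, h₂, h₂'⟩
    refine ⟨δ₁ + δ₂, fun i => Ideal.add_mem _ (h₁ i) (h₂ i), ?_⟩
    rw [map_add]
    have : m₁ + m₂ - (Fintype.linearCombination B s δ₁ + Fintype.linearCombination B s δ₂) =
        (m₁ - Fintype.linearCombination B s δ₁) + (m₂ - Fintype.linearCombination B s δ₂) := by
      abel
    rw [this]
    exact Submodule.add_mem _ h₁' h₂'

/-- If `M/𝔫M` is generated by `d` elements and the ring is `𝔫`-adically precomplete, the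
`𝔫`-adic completion of `M` is generated by (the images of) these elements. -/
theorem of_comp_linearCombination_surjective [IsPrecomplete 𝔫 B]
    (h1 : LinearMap.range (Fintype.linearCombination B s) ⊔ 𝔫 • (⊤ : Submodule B M) = ⊤) :
    Function.Surjective ((AdicCompletion.of 𝔫 M).comp (Fintype.linearCombination B s)) := by
  classical
  intro y
  set Φ := Fintype.linearCombination B s with hΦdef
  have hΦ : ∀ x, Φ x = ∑ i, x i • s i := fun x => Fintype.linearCombination_apply B s x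
  choose ys hys using fun j => Submodule.Quotient.mk_surjective _ (y.val j)
  have hcompat : ∀ j, ys (j + 1) - ys j ∈ (𝔫 ^ j) • (⊤ : Submodule B M) := by
    intro j
    rw [← Submodule.Quotient.eq, hys j]
    have h6 := y.property (Nat.le_succ j)
    rw [← h6, ← hys (j + 1)]
    rfl
  -- the recursion
  have step : ∀ (j : ℕ) (x : Fin d → B), ys j - Φ x ∈ (𝔫 ^ j) • (⊤ : Submodule B M) →
      ∃ x' : Fin d → B, ys (j + 1) - Φ x' ∈ (𝔫 ^ (j + 1)) • (⊤ : Submodule B M) ∧
        ∀ i, x' i - x i ∈ 𝔫 ^ j := by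
    intro j x hx
    have h2 : ys (j + 1) - Φ x ∈ (𝔫 ^ j) • (⊤ : Submodule B M) := by
      have : ys (j + 1) - Φ x = (ys (j + 1) - ys j) + (ys j - Φ x) := by abel
      rw [this]
      exact Submodule.add_mem _ (hcompat j) hx
    obtain ⟨δ, hδ, hδ'⟩ := exists_approx 𝔫 s h1 j _ h2
    refine ⟨x + δ, ?_, fun i => ?_⟩
    · rw [map_add]
      have : ys (j + 1) - (Φ x + Φ δ) = ys (j + 1) - Φ x - Φ δ := by abel
      rw [this]
      exact hδ'
    · rw [Pi.add_apply, add_sub_cancel_left]
      exact hδ i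
  choose nxt hnxt1 hnxt2 using step
  let f : (j : ℕ) → {x : Fin d → B // ys j - Φ x ∈ (𝔫 ^ j) • (⊤ : Submodule B M)} := fun j =>
    Nat.rec (motive := fun j => {x : Fin d → B // ys j - Φ x ∈ (𝔫 ^ j) • (⊤ : Submodule B M)})
      ⟨0, by rw [pow_zero, Ideal.one_eq_top, Submodule.top_smul]; trivial⟩
      (fun j p => ⟨nxt j p.1 p.2, hnxt1 j p.1 p.2⟩) j
  have hf_succ : ∀ j i, (f (j + 1)).1 i - (f j).1 i ∈ 𝔫 ^ j := by
    intro j i
    exact hnxt2 j (f j).1 (f j).2 i
  have hcauchy : ∀ i, ∀ {m n : ℕ}, m ≤ n →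
      (f m).1 i ≡ (f n).1 i [SMOD (𝔫 ^ m • ⊤ : Submodule B B)] := by
    intro i m n hmn
    induction n, hmn using Nat.le_induction with
    | base => exact SModEq.rfl
    | succ n hmn ih =>
      refine ih.trans ?_
      rw [SModEq.sub_mem, smul_eq_mul, Ideal.mul_top]
      have := hf_succ n i
      have h3 : (f n).1 i - (f (n + 1)).1 i = -((f (n + 1)).1 i - (f n).1 i) := by ring
      rw [h3]
      exact neg_mem (Ideal.pow_le_pow_right hmn this)
  choose l hl using fun i => IsPrecomplete.prec' (I := 𝔫) (M := B) (fun j => (f j).1 i) (hcauchy i)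
  refine ⟨l, ?_⟩
  apply AdicCompletion.ext
  intro j
  show Submodule.Quotient.mk (Φ l) = y.val j
  rw [← hys j, Submodule.Quotient.eq]
  have h4 : Φ l - ys j = Φ (l - (f j).1) - (ys j - Φ (f j).1) := by
    rw [map_sub]; abel
  rw [h4]
  refine Submodule.sub_mem _ ?_ (f j).2
  rw [hΦ]
  refine Submodule.sum_mem _ fun i _ => ?_
  refine Submodule.smul_mem_smul ?_ trivial
  have := hl i j
  rw [SModEq.sub_mem, smul_eq_mul, Ideal.mul_top] at this
  have h7 : (l - (f j).1) i = -((f j).1 i - l i) := by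
    rw [Pi.sub_apply, neg_sub]
  rw [h7]
  exact neg_mem this

/-- the completion is a finite module if `M/𝔫M` is. -/
theorem finite_adicCompletion [IsPrecomplete 𝔫 B] (N : Submodule B M) (hN : N.FG)
    (h1 : N ⊔ 𝔫 • (⊤ : Submodule B M) = ⊤) : Module.Finite B (AdicCompletion 𝔫 M) := by
  obtain ⟨d, s, hs⟩ := Submodule.fg_iff_exists_fin_generating_family.mp hN
  have h2 : LinearMap.range (Fintype.linearCombination B s) = N := by
    rw [Fintype.range_linearCombination, hs]
  rw [← h2] at h1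
  exact Module.Finite.of_surjective _ (of_comp_linearCombination_surjective 𝔫 s h1)

end

end Groth.Agent.H5.CF
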