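import Mathlib

set_option autoImplicit false
universe u

open IsLocalRing Algebra

namespace Groth.Agent.H5.Car

/-- cotangent modules of equal ideals. -/
noncomputable def cotangentEquivOfEq {R : Type*} [CommRing R] (I J : Ideal R) (h : I = J) :
    I.Cotangent ≃ₗ[R] J.Cotangent := by
  subst h
  exact LinearEquiv.refl R _

/-- **finrank transfer** between two residue-field-like quotients. -/
theorem finrank_eq_of_linearEquiv_of_surjective {R L κ : Type*} {V W : Type u} [CommRing R] [Field L] [Field κ]
    [Algebra R L] [Algebra R κ] [AddCommMonoid V] [Module R V] [Module L V] [IsScalarTower R L V]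
    [AddCommMonoid W] [Module R W] [Module κ W] [IsScalarTower R κ W]
    (hL : Function.Surjective (algebraMap R L)) (hκ : Function.Surjective (algebraMap R κ))
    (hker : RingHom.ker (algebraMap R L) = RingHom.ker (algebraMap R κ))
    (e : V ≃ₗ[R] W) : Module.finrank L V = Module.finrank κ W := by
  let i : L → κ := fun l => algebraMap R κ (hL l).choose
  have hi : ∀ a : R, i (algebraMap R L a) = algebraMap R κ a := by
    intro a
    have h1 : algebraMap R L (hL (algebraMap R L a)).choose = algebraMap R L a :=
      (hL (algebraMap R L a)).choose_spec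
    have h2 : (hL (algebraMap R L a)).choose - a ∈ RingHom.ker (algebraMap R L) := by
      rw [RingHom.mem_ker, map_sub, h1, sub_self]
    rw [hker, RingHom.mem_ker, map_sub, sub_eq_zero] at h2
    exact h2
  have hbij : Function.Bijective i := by
    constructor
    · intro l l' hll'
      obtain ⟨a, rfl⟩ := hL l
      obtain ⟨a', rfl⟩ := hL l'
      rw [hi, hi] at hll'
      have h2 : a - a' ∈ RingHom.ker (algebraMap R κ) := by
        rw [RingHom.mem_ker, map_sub, hll', sub_self]
      rw [← hker, RingHom.mem_ker, map_sub, sub_eq_zero] at h2
      exact h2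
    · intro c
      obtain ⟨a, rfl⟩ := hκ c
      exact ⟨algebraMap R L a, hi a⟩
  have hc : ∀ (l : L) (v : V), e.toAddEquiv (l • v) = i l • e.toAddEquiv v := by
    intro l v
    obtain ⟨a, rfl⟩ := hL l
    rw [hi]
    show e ((algebraMap R L a) • v) = (algebraMap R κ a) • e v
    rw [algebraMap_smul L a v, algebraMap_smul κ a (e v), e.map_smul]
  have := rank_eq_of_equiv_equiv i e.toAddEquiv hbij hc
  unfold Module.finrank
  rw [this]

/-- the cotangent module of an extension by a regular local ring has rank `dim R`. -/
theorem finrank_cotangent_eq {K L : Type u} [Field K] [Field L]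
    [Algebra K L] (E : Extension.{u} K L) [IsRegularLocalRing E.Ring] :
    (Module.finrank L E.Cotangent : WithBot ℕ∞) = ringKrullDim E.Ring := by
  have hπ : Function.Surjective (algebraMap E.Ring L) := E.algebraMap_surjective
  have hker : E.ker = maximalIdeal E.Ring := by
    haveI : E.ker.IsMaximal := RingHom.ker_isMaximal_of_surjective _ hπ
    exact IsLocalRing.eq_maximalIdeal inferInstance
  let j : E.Cotangent ≃ₗ[E.Ring] (maximalIdeal E.Ring).Cotangent :=
    E.cotangentEquivCotangentKer.trans (cotangentEquivOfEq _ (maximalIdeal E.Ring) hker)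
  have h1 : Module.finrank L E.Cotangent =
      Module.finrank (ResidueField E.Ring) (CotangentSpace E.Ring) := by
    refine finrank_eq_of_linearEquiv_of_surjective (R := E.Ring) (L := L)
      (κ := ResidueField E.Ring) ?_ ?_ ?_ j
    · exact hπ
    · exact IsLocalRing.residue_surjective
    · show RingHom.ker _ = RingHom.ker (IsLocalRing.residue E.Ring)
      rw [IsLocalRing.ker_residue]
      exact hker
  rw [h1]
  exact (IsRegularLocalRing.iff_finrank_cotangentSpace E.Ring).mp inferInstance

end Groth.Agent.H5.Car
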