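import Mathlib
import Groth.Agent.Lib.Helper5.Car.CF1
import Groth.Agent.Lib.Helper5.Car.Car1

set_option autoImplicit false
universe u

open TensorProduct

namespace Groth.Agent.H5.CF

open Groth.Agent.H5.Car

section
variable {R : Type*} [CommRing R] (I : Ideal R) (M : Type*) [AddCommGroup M] [Module R M]

theorem exists_fg_sup_smul_top [Module.Finite R (M ⧸ (I • ⊤ : Submodule R M))] :
    ∃ N : Submodule R M, N.FG ∧ N ⊔ I • (⊤ : Submodule R M) = ⊤ := by
  obtain ⟨n, s, hs⟩ := Module.Finite.exists_fin (R := R) (M := M ⧸ (I • ⊤ : Submodule R M))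
  choose m hm using fun i => Submodule.Quotient.mk_surjective _ (s i)
  refine ⟨Submodule.span R (Set.range m), Submodule.fg_span (Set.finite_range m), ?_⟩
  have h1 : (Submodule.span R (Set.range m)).map (I • ⊤ : Submodule R M).mkQ = ⊤ := by
    rw [Submodule.map_span, ← Set.range_comp, ← hs]
    congr 2
    funext i
    exact hm i
  have h2 := Submodule.comap_map_eq (I • ⊤ : Submodule R M).mkQ (Submodule.span R (Set.range m))
  rw [h1, Submodule.comap_top, Submodule.ker_mkQ] at h2
  exact h2.symm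

theorem finite_adicCompletion_of_finite_quotient [IsPrecomplete I R]
    [Module.Finite R (M ⧸ (I • ⊤ : Submodule R M))] : Module.Finite R (AdicCompletion I M) := by
  obtain ⟨N, hN, h1⟩ := exists_fg_sup_smul_top I M
  exact finite_adicCompletion I N hN h1

theorem finite_adicCompletion_of_finite_tensor [IsPrecomplete I R]
    [Module.Finite R ((R ⧸ I) ⊗[R] M)] : Module.Finite R (AdicCompletion I M) := by
  haveI : Module.Finite R (M ⧸ (I • ⊤ : Submodule R M)) :=
    Module.Finite.equiv (TensorProduct.quotTensorEquivQuotSMul M I)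
  exact finite_adicCompletion_of_finite_quotient I M

end

section
variable (A : Type u) {B : Type u} [CommRing A] [CommRing B] [Algebra A B] (𝔫 : Ideal B)

theorem finite_tensor_kaehler [Module.Finite (B ⧸ 𝔫) (Ω[B ⧸ 𝔫⁄A])]
    [Module.Finite (B ⧸ 𝔫) 𝔫.Cotangent] : Module.Finite B ((B ⧸ 𝔫) ⊗[B] Ω[B⁄A]) := by
  let γ := (KaehlerDifferential.mapBaseChange A B (B ⧸ 𝔫)).restrictScalars B
  let kct := KaehlerDifferential.kerCotangentToTensor A B (B ⧸ 𝔫)
  have hsurj : Function.Surjective (algebraMap B (B ⧸ 𝔫)) := Ideal.Quotient.mk_surjective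
  have hex : Function.Exact kct γ :=
    KaehlerDifferential.exact_kerCotangentToTensor_mapBaseChange A B (B ⧸ 𝔫) hsurj
  have hγ : Function.Surjective γ := KaehlerDifferential.mapBaseChange_surjective A B (B ⧸ 𝔫) hsurj
  haveI : Module.Finite B (Ω[B ⧸ 𝔫⁄A]) := Module.Finite.trans (B ⧸ 𝔫) _
  haveI : Module.Finite B 𝔫.Cotangent := Module.Finite.trans (B ⧸ 𝔫) _
  have hker : RingHom.ker (algebraMap B (B ⧸ 𝔫)) = 𝔫 := Ideal.mk_ker
  haveI : Module.Finite B (RingHom.ker (algebraMap B (B ⧸ 𝔫))).Cotangent :=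
    Module.Finite.equiv (cotangentEquivOfEq _ _ hker.symm)
  haveI : Module.Finite B (LinearMap.ker γ) := by
    rw [LinearMap.exact_iff.mp hex]
    exact Module.Finite.range kct
  haveI : Module.Finite B (((B ⧸ 𝔫) ⊗[B] Ω[B⁄A]) ⧸ LinearMap.ker γ) :=
    Module.Finite.equiv (LinearMap.quotKerEquivOfSurjective γ hγ).symm
  exact Module.Finite.of_submodule_quotient (LinearMap.ker γ)

/-- EGA 0_IV 20.7.15-type finiteness: the completed module of differentials is finite. -/
theorem finite_completedKaehler [IsPrecomplete 𝔫 B] [Module.Finite (B ⧸ 𝔫) (Ω[B ⧸ 𝔫⁄A])]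
    [Module.Finite (B ⧸ 𝔫) 𝔫.Cotangent] : Module.Finite B (AdicCompletion 𝔫 (Ω[B⁄A])) := by
  haveI := finite_tensor_kaehler A 𝔫
  exact finite_adicCompletion_of_finite_tensor 𝔫 (Ω[B⁄A])

end

end Groth.Agent.H5.CF
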