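import Mathlib
import Groth.Agent.Lib.Helper5.Car.Car1

set_option autoImplicit false
universe u

open IsLocalRing Algebra TensorProduct

namespace Groth.Agent.H5.Car

/-- **Cartier's equality for an extension** `E.Ring → L` with `E.Ring` formally smooth over `K`
with finite free differentials. -/
theorem cartier_extension {K L : Type u} [Field K] [Field L] [Algebra K L] (E : Extension.{u} K L)
    [IsNoetherianRing E.Ring] [FormallySmooth K E.Ring] [Module.Free E.Ring Ω[E.Ring⁄K]]
    [Module.Finite E.Ring Ω[E.Ring⁄K]] :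
    Module.Finite L Ω[L⁄K] ∧ Module.Finite L (H1Cotangent K L) ∧ Module.Finite L E.Cotangent ∧
    ((Module.finrank L Ω[L⁄K] : ℤ) - Module.finrank L (H1Cotangent K L) =
      (Module.finrank E.Ring Ω[E.Ring⁄K] : ℤ) - (Module.finrank L E.Cotangent : ℤ)) := by
  -- finiteness of the cotangent module
  haveI hfin1 : Module.Finite E.Ring E.Cotangent := by
    haveI : Module.Finite E.Ring E.ker := Module.Finite.iff_fg.mpr (IsNoetherian.noetherian _)
    exact Module.Finite.of_surjective (Extension.Cotangent.mk (P := E))
      Extension.Cotangent.mk_surjective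
  haveI hfin2 : Module.Finite L E.Cotangent :=
    Module.Finite.of_restrictScalars_finite E.Ring L E.Cotangent
  haveI hfin3 : Module.Finite L E.CotangentSpace :=
    inferInstanceAs (Module.Finite L (L ⊗[E.Ring] Ω[E.Ring⁄K]))
  haveI : Nontrivial E.Ring := (algebraMap E.Ring L).domain_nontrivial
  have hrk : Module.finrank L E.CotangentSpace = Module.finrank E.Ring Ω[E.Ring⁄K] :=
    Module.finrank_baseChange
  let cc : E.Cotangent →ₗ[L] E.CotangentSpace := E.cotangentComplex
  -- H1
  let e1 : E.H1Cotangent ≃ₗ[L] H1Cotangent K L := E.equivH1CotangentOfFormallySmooth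
  haveI hfin4 : Module.Finite L E.H1Cotangent :=
    inferInstanceAs (Module.Finite L (LinearMap.ker cc))
  haveI hfin5 : Module.Finite L (H1Cotangent K L) := Module.Finite.equiv e1
  -- Ω
  have hex := E.exact_cotangentComplex_toKaehler
  have hker : LinearMap.ker E.toKaehler = LinearMap.range cc := (LinearMap.exact_iff.mp hex)
  let e2 : (E.CotangentSpace ⧸ LinearMap.range cc) ≃ₗ[L] Ω[L⁄K] :=
    (Submodule.quotEquivOfEq _ _ hker.symm).trans
      (LinearMap.quotKerEquivOfSurjective E.toKaehler E.toKaehler_surjective)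
  haveI hfin6 : Module.Finite L Ω[L⁄K] := Module.Finite.equiv e2
  refine ⟨hfin6, hfin5, hfin2, ?_⟩
  have h1 := LinearMap.finrank_range_add_finrank_ker cc
  have h2 := Submodule.finrank_quotient_add_finrank (LinearMap.range cc)
  have h3 : Module.finrank L (H1Cotangent K L) = Module.finrank L (LinearMap.ker cc) :=
    e1.symm.finrank_eq
  have h4 : Module.finrank L Ω[L⁄K] = Module.finrank L (E.CotangentSpace ⧸ LinearMap.range cc) :=
    e2.symm.finrank_eq
  rw [h3, h4, ← hrk]
  omega

end Groth.Agent.H5.Car
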