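import Mathlib
import Groth.Agent.Lib.Helper5.Car.Car2
import Groth.Agent.Lib.Helper2.DimFG

set_option autoImplicit false
universe u

open IsLocalRing Algebra TensorProduct

namespace Groth.Agent.H5.Car

section
variable {K L : Type u} [Field K] [Field L] [Algebra K L]

/-- a finitely generated field extension is the residue field of a localization of a polynomial
ring at a prime. -/
theorem exists_presentation [EssFiniteType K L] :
    ∃ (n : ℕ) (π₀ : MvPolynomial (Fin n) K →ₐ[K] L),
      ∀ l : L, ∃ f g : MvPolynomial (Fin n) K, π₀ g ≠ 0 ∧ l * π₀ g = π₀ f := by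
  classical
  let s := EssFiniteType.finset K L
  let n := s.card
  let gen : Fin n → L := fun i => ((s.equivFin.symm i : s) : L)
  let π₀ : MvPolynomial (Fin n) K →ₐ[K] L := MvPolynomial.aeval gen
  have hrange : π₀.range = EssFiniteType.subalgebra K L := by
    rw [← Algebra.adjoin_range_eq_range_aeval]
    congr 1
    ext x
    constructor
    · rintro ⟨i, rfl⟩
      exact (s.equivFin.symm i).2
    · intro hx
      exact ⟨s.equivFin ⟨x, hx⟩, by simp [gen]⟩
  refine ⟨n, π₀, fun l => ?_⟩
  obtain ⟨⟨a, m⟩, hm⟩ := IsLocalization.surj (EssFiniteType.submonoid K L) l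
  have ha : (a : L) ∈ π₀.range := by rw [hrange]; exact a.2
  have hm' : ((m : EssFiniteType.subalgebra K L) : L) ∈ π₀.range := by
    rw [hrange]; exact (m : EssFiniteType.subalgebra K L).2
  obtain ⟨f, hf⟩ := ha
  obtain ⟨g, hg⟩ := hm'
  refine ⟨f, g, ?_, ?_⟩
  · have h1 : IsUnit (algebraMap (EssFiniteType.subalgebra K L) L m) := m.2
    have h2 : π₀ g = algebraMap (EssFiniteType.subalgebra K L) L m := hg
    rw [h2]
    exact h1.ne_zero
  · have h2 : π₀ g = algebraMap (EssFiniteType.subalgebra K L) L m := hg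
    have h3 : π₀ f = algebraMap (EssFiniteType.subalgebra K L) L a := hf
    rw [h2, h3]
    exact hm

end

end Groth.Agent.H5.Car

namespace Groth.Agent.H5.Car

section
variable {K L : Type u} [Field K] [Field L] [Algebra K L]

/-- the transcendence degree of `L` over `K` is that of `P ⧸ ker π₀`. -/
theorem trdeg_eq_of_presentation {n : ℕ} (π₀ : MvPolynomial (Fin n) K →ₐ[K] L)
    (hπ₀ : ∀ l : L, ∃ f g : MvPolynomial (Fin n) K, π₀ g ≠ 0 ∧ l * π₀ g = π₀ f) :
    Algebra.trdeg K L = Algebra.trdeg K (MvPolynomial (Fin n) K ⧸ RingHom.ker π₀.toRingHom) := by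
  let B := MvPolynomial (Fin n) K ⧸ RingHom.ker π₀.toRingHom
  let ι : B →ₐ[K] L := Ideal.Quotient.liftₐ _ π₀ (fun a ha => ha)
  have hι : Function.Injective ι := by
    rw [injective_iff_map_eq_zero]
    intro b hb
    obtain ⟨a, rfl⟩ := Ideal.Quotient.mk_surjective b
    exact Ideal.Quotient.eq_zero_iff_mem.mpr hb
  letI : Algebra B L := ι.toRingHom.toAlgebra
  haveI : IsScalarTower K B L := IsScalarTower.of_algebraMap_eq (fun c => (ι.commutes c).symm)
  haveI : FaithfulSMul B L := (faithfulSMul_iff_algebraMap_injective B L).mpr hι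
  haveI : IsDomain B := hι.isDomain ι.toRingHom
  haveI : Algebra.IsAlgebraic B L := by
    refine ⟨fun l => ?_⟩
    obtain ⟨f, g, hg, hfg⟩ := hπ₀ l
    refine ⟨Polynomial.C (Ideal.Quotient.mk _ g) * Polynomial.X - Polynomial.C (Ideal.Quotient.mk _ f),
      ?_, ?_⟩
    · intro h0
      have h1 := congrArg (fun q => Polynomial.coeff q (0 + 1)) h0
      simp only [Polynomial.coeff_sub, Polynomial.coeff_mul_X, Polynomial.coeff_C_zero,
        Polynomial.coeff_zero] at h1
      rw [Polynomial.coeff_C_of_ne_zero (by norm_num), sub_zero] at h1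
      apply hg
      have h2 : ι (Ideal.Quotient.mk _ g) = 0 := by rw [h1, map_zero]
      exact h2
    · rw [map_sub, map_mul, Polynomial.aeval_C, Polynomial.aeval_C, Polynomial.aeval_X]
      show ι (Ideal.Quotient.mk _ g) * l - ι (Ideal.Quotient.mk _ f) = 0
      show π₀ g * l - π₀ f = 0
      rw [mul_comm, hfg, sub_self]
  have h := trdeg_add_eq K B (A := L)
  rw [trdeg_eq_zero (R := B) (A := L), add_zero] at h
  exact h.symm

end

end Groth.Agent.H5.Car

namespace Groth.Agent.H5.Car

section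
variable {K L : Type u} [Field K] [Field L] [Algebra K L]

/-- dimension count: `n - ht 𝔭 = trdeg`. -/
theorem height_add_trdeg {n : ℕ} (𝔭 : Ideal (MvPolynomial (Fin n) K)) [𝔭.IsPrime] :
    ∃ t : ℕ, Algebra.trdeg K (MvPolynomial (Fin n) K ⧸ 𝔭) = t ∧
      ringKrullDim (Localization.AtPrime 𝔭) + (t : WithBot ℕ∞) = n := by
  obtain ⟨t, h1, h2⟩ := Groth.Agent.H2.DimFG.exists_dim_eq_trdeg K (MvPolynomial (Fin n) K ⧸ 𝔭)
  refine ⟨t, h2, ?_⟩
  rw [IsLocalization.AtPrime.ringKrullDim_eq_height 𝔭 (Localization.AtPrime 𝔭), ← h1,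
    Groth.Agent.H2.DimFG.height_add_ringKrullDim_quotient K (MvPolynomial (Fin n) K) 𝔭,
    Groth.Agent.H2.DimFG.ringKrullDim_mvPolynomial_fin]

end

end Groth.Agent.H5.Car

namespace Groth.Agent.H5.Car

section
variable {K L : Type u} [Field K] [Field L] [Algebra K L]

/-- Kähler differentials of a localization of a polynomial ring. -/
theorem kaehler_localization_mvPolynomial {n : ℕ} (𝔭 : Ideal (MvPolynomial (Fin n) K)) [𝔭.IsPrime] :
    Module.Free (Localization.AtPrime 𝔭) Ω[Localization.AtPrime 𝔭⁄K] ∧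
    Module.Finite (Localization.AtPrime 𝔭) Ω[Localization.AtPrime 𝔭⁄K] ∧
    Module.finrank (Localization.AtPrime 𝔭) Ω[Localization.AtPrime 𝔭⁄K] = n := by
  haveI : Algebra.FormallyEtale (MvPolynomial (Fin n) K) (Localization.AtPrime 𝔭) :=
    Algebra.FormallyEtale.of_isLocalization 𝔭.primeCompl
  let e := KaehlerDifferential.tensorKaehlerEquivOfFormallyEtale K (MvPolynomial (Fin n) K)
    (Localization.AtPrime 𝔭)
  let b := (KaehlerDifferential.mvPolynomialBasis K (Fin n)).baseChange (Localization.AtPrime 𝔭)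
  let b' := b.map e
  refine ⟨Module.Free.of_basis b', Module.Finite.of_basis b', ?_⟩
  rw [Module.finrank_eq_card_basis b', Fintype.card_fin]

/-- **Cartier's equality, `H₁` form** (Stacks 07E1 for a single extension). -/
theorem cartier_H1 [EssFiniteType K L] :
    Module.Finite L Ω[L⁄K] ∧ Module.Finite L (H1Cotangent K L) ∧
    ((Module.finrank L Ω[L⁄K] : ℤ) - Module.finrank L (H1Cotangent K L) =
      (Cardinal.toNat (Algebra.trdeg K L) : ℤ)) := by
  obtain ⟨n, π₀, hπ₀⟩ := exists_presentation (K := K) (L := L)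
  let 𝔭 : Ideal (MvPolynomial (Fin n) K) := RingHom.ker π₀.toRingHom
  haveI : 𝔭.IsPrime := RingHom.ker_isPrime _
  have hunit : ∀ y : 𝔭.primeCompl, IsUnit (π₀ y) := fun y =>
    isUnit_iff_ne_zero.mpr (fun h => y.2 (RingHom.mem_ker.mpr h))
  let π : Localization.AtPrime 𝔭 →ₐ[K] L :=
    IsLocalization.liftAlgHom (M := 𝔭.primeCompl) (f := π₀) hunit
  have hπalg : ∀ x, π (algebraMap _ _ x) = π₀ x := fun x => IsLocalization.lift_eq _ x
  have hπ : Function.Surjective π := by
    intro l
    obtain ⟨f, g, hg, hfg⟩ := hπ₀ l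
    have hg' : g ∈ 𝔭.primeCompl := fun h => hg (RingHom.mem_ker.mp h)
    refine ⟨IsLocalization.mk' (Localization.AtPrime 𝔭) f ⟨g, hg'⟩, ?_⟩
    have h1 := IsLocalization.mk'_spec (Localization.AtPrime 𝔭) f ⟨g, hg'⟩
    have h2 := congrArg π h1
    rw [map_mul, hπalg, hπalg] at h2
    exact mul_right_cancel₀ hg (h2.trans hfg.symm)
  let E := Extension.ofSurjective π hπ
  haveI : IsRegularLocalRing E.Ring :=
    show IsRegularLocalRing (Localization.AtPrime 𝔭) from inferInstance
  haveI : IsNoetherianRing E.Ring :=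
    show IsNoetherianRing (Localization.AtPrime 𝔭) from inferInstance
  haveI : FormallySmooth K E.Ring := by
    show FormallySmooth K (Localization.AtPrime 𝔭)
    haveI : FormallySmooth (MvPolynomial (Fin n) K) (Localization.AtPrime 𝔭) :=
      FormallySmooth.of_isLocalization 𝔭.primeCompl
    exact FormallySmooth.comp K (MvPolynomial (Fin n) K) (Localization.AtPrime 𝔭)
  obtain ⟨hfree, hfin, hrk⟩ := kaehler_localization_mvPolynomial (K := K) 𝔭
  haveI : Module.Free E.Ring Ω[E.Ring⁄K] := hfree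
  haveI : Module.Finite E.Ring Ω[E.Ring⁄K] := hfin
  obtain ⟨h1, h2, h3, h4⟩ := cartier_extension E
  refine ⟨h1, h2, ?_⟩
  rw [h4]
  have h5 : Module.finrank E.Ring Ω[E.Ring⁄K] = n := hrk
  rw [h5]
  have h6 := finrank_cotangent_eq E
  obtain ⟨t, ht1, ht2⟩ := height_add_trdeg (K := K) 𝔭
  rw [trdeg_eq_of_presentation π₀ hπ₀, ht1, Cardinal.toNat_natCast]
  have h7 : ringKrullDim E.Ring = ringKrullDim (Localization.AtPrime 𝔭) := rfl
  rw [h7] at h6
  rw [← h6] at ht2
  have h8 : (Module.finrank L E.Cotangent : WithBot ℕ∞) + (t : WithBot ℕ∞) =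
      ((Module.finrank L E.Cotangent + t : ℕ) : WithBot ℕ∞) := by
    push_cast; rfl
  rw [h8] at ht2
  have h9 : Module.finrank L E.Cotangent + t = n := by exact_mod_cast ht2
  omega

end

end Groth.Agent.H5.Car
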