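import Mathlib
import Groth.Prelude.Def_EGA41
import Groth.Agent.Lib.Helper5.CA.PSAdicSmooth2
import Groth.Agent.Lib.Helper5.CA.CoeffUniq

set_option autoImplicit false
universe u

open Algebra TensorProduct

namespace Groth.Agent.H5.Car

/-- a `ℤ`-derivation of a field vanishes on the prime field. -/
theorem derivation_bot_eq_zero {K M : Type*} [Field K] [AddCommGroup M] [Module K M]
    (D : Derivation ℤ K M) (c : K) (hc : c ∈ (⊥ : Subfield K)) : D c = 0 := by
  let S : Subfield K :=
    { carrier := {a | D a = 0}
      mul_mem' := fun {a b} ha hb => by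
        show D (a * b) = 0
        rw [D.leibniz, show D a = 0 from ha, show D b = 0 from hb, smul_zero, smul_zero, add_zero]
      one_mem' := D.map_one_eq_zero
      add_mem' := fun {a b} ha hb => by
        show D (a + b) = 0
        rw [map_add, show D a = 0 from ha, show D b = 0 from hb, add_zero]
      zero_mem' := map_zero D
      neg_mem' := fun {a} ha => by
        show D (-a) = 0
        rw [map_neg, show D a = 0 from ha, neg_zero]
      inv_mem' := fun a ha => by
        show D a⁻¹ = 0
        rw [D.leibniz_inv, show D a = 0 from ha, smul_zero] }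
  exact (bot_le : (⊥ : Subfield K) ≤ S) hc

section
variable (K : Type u) [Field K] (B : Type u) [CommRing B] [Algebra K B]

/-- `d_{B/ℤ}` is linear over the prime field of `K`. -/
noncomputable def derivOfBot : Derivation (⊥ : Subfield K) B (Ω[B⁄ℤ]) where
  toLinearMap :=
    { toFun := KaehlerDifferential.D ℤ B
      map_add' := map_add _
      map_smul' := fun c b => by
        rw [RingHom.id_apply, Algebra.smul_def, Derivation.leibniz]
        have h0 : KaehlerDifferential.D ℤ B (algebraMap (⊥ : Subfield K) B c) = 0 := by
          have h1 := derivation_bot_eq_zero ((KaehlerDifferential.D ℤ B).compAlgebraMap K)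
            (c : K) c.2
          exact h1
        rw [h0, smul_zero, add_zero, algebraMap_smul] }
  map_one_eq_zero' := (KaehlerDifferential.D ℤ B).map_one_eq_zero
  leibniz' := (KaehlerDifferential.D ℤ B).leibniz

theorem map_int_bot_bijective :
    Function.Bijective (KaehlerDifferential.map ℤ (⊥ : Subfield K) B B) := by
  refine ⟨?_, KaehlerDifferential.map_surjective ℤ (⊥ : Subfield K) B⟩
  let g : Ω[B⁄(⊥ : Subfield K)] →ₗ[B] Ω[B⁄ℤ] := (derivOfBot K B).liftKaehlerDifferential
  have hg : g.comp (KaehlerDifferential.map ℤ (⊥ : Subfield K) B B) = LinearMap.id := by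
    apply Derivation.liftKaehlerDifferential_unique
    apply Derivation.ext
    intro b
    show g (KaehlerDifferential.map ℤ (⊥ : Subfield K) B B (KaehlerDifferential.D ℤ B b)) =
      KaehlerDifferential.D ℤ B b
    rw [KaehlerDifferential.map_D]
    show (derivOfBot K B).liftKaehlerDifferential (KaehlerDifferential.D (⊥ : Subfield K) B b) = _
    rw [Derivation.liftKaehlerDifferential_comp_D]
    rfl
  intro x y hxy
  have := congrArg g hxy
  rwa [← LinearMap.comp_apply, ← LinearMap.comp_apply, hg] at this

end

end Groth.Agent.H5.Car
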