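import Mathlib
import Groth.Prelude.Def_EGA41
import Groth.Agent.Lib.Helper5.Car.Car4
import Groth.Agent.Lib.Helper5.CA.JZ2

set_option autoImplicit false
universe u

open Algebra TensorProduct

namespace Groth.Agent.H5.Car

/-- kernels correspond under an isomorphism of sources and an injection of targets. -/
noncomputable def kerEquivOfSquare {L V V' W W' : Type*} [Field L] [AddCommGroup V] [Module L V]
    [AddCommGroup V'] [Module L V'] [AddCommGroup W] [Module L W] [AddCommGroup W'] [Module L W']
    (φ : V →ₗ[L] W) (φ' : V' →ₗ[L] W') (α : V ≃ₗ[L] V') (β : W →ₗ[L] W')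
    (hβ : Function.Injective β) (hsq : β.comp φ = φ'.comp α.toLinearMap) :
    LinearMap.ker φ ≃ₗ[L] LinearMap.ker φ' :=
  (α.submoduleMap (LinearMap.ker φ)).trans (LinearEquiv.ofEq _ _ (by
    ext x
    constructor
    · rintro ⟨v, hv, rfl⟩
      rw [LinearMap.mem_ker]
      have := congr($hsq v)
      rw [LinearMap.comp_apply, LinearMap.comp_apply, LinearMap.mem_ker.mp hv, map_zero] at this
      exact this.symm
    · intro hx
      refine ⟨α.symm x, ?_, α.apply_symm_apply x⟩
      rw [SetLike.mem_coe, LinearMap.mem_ker]
      apply hβ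
      have := congr($hsq (α.symm x))
      rw [LinearMap.comp_apply, LinearMap.comp_apply] at this
      rw [this, map_zero]
      show φ' (α (α.symm x)) = 0
      rw [α.apply_symm_apply]
      exact hx))

section
variable (K L : Type u) [Field K] [Field L] [Algebra K L]

/-- the imperfection module over `ℤ` is the one over the prime field. -/
noncomputable def imperfectionIntEquivBot :
    EGA41.imperfection ℤ K L ≃ₗ[L] EGA41.imperfection (⊥ : Subfield K) K L :=
  kerEquivOfSquare (KaehlerDifferential.mapBaseChange ℤ K L)
    (KaehlerDifferential.mapBaseChange (⊥ : Subfield K) K L)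
    ((LinearEquiv.ofBijective (KaehlerDifferential.map ℤ (⊥ : Subfield K) K K)
      (map_int_bot_bijective K K)).baseChange K L _ _)
    (KaehlerDifferential.map ℤ (⊥ : Subfield K) L L)
    (map_int_bot_bijective K L).1 (by
      apply H5.JZ.ext_tensor_kaehler
      intro a
      rw [LinearMap.comp_apply, LinearMap.comp_apply, KaehlerDifferential.mapBaseChange_tmul,
        one_smul, KaehlerDifferential.map_D, KaehlerDifferential.map_D]
      show _ = KaehlerDifferential.mapBaseChange (⊥ : Subfield K) K L
        ((1 : L) ⊗ₜ KaehlerDifferential.map ℤ (⊥ : Subfield K) K K (KaehlerDifferential.D ℤ K a))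
      rw [KaehlerDifferential.map_D, KaehlerDifferential.mapBaseChange_tmul, one_smul,
        KaehlerDifferential.map_D, Algebra.algebraMap_self_apply, Algebra.algebraMap_self_apply])

/-- `H₁(L_{L/K})` is the imperfection module over the prime field. -/
noncomputable def h1CotangentEquivImperfectionBot :
    H1Cotangent K L ≃ₗ[L] EGA41.imperfection (⊥ : Subfield K) K L := by
  haveI : PerfectField (⊥ : Subfield K) := Groth.Agent.H5.CoeffUniq.perfectField_bot K
  haveI : Algebra.FormallySmooth (⊥ : Subfield K) L :=
    Groth.Agent.H5.CA.formallySmooth_of_perfectField (⊥ : Subfield K) L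
  haveI : Subsingleton (H1Cotangent (⊥ : Subfield K) L) :=
    Algebra.FormallySmooth.subsingleton_h1Cotangent
  have hinj : Function.Injective (H1Cotangent.δ (⊥ : Subfield K) K L) := by
    rw [← LinearMap.ker_eq_bot, (LinearMap.exact_iff.mp (H1Cotangent.exact_map_δ (⊥ : Subfield K) K L)),
      LinearMap.range_eq_bot]
    exact Subsingleton.elim _ _
  have hrange : LinearMap.range (H1Cotangent.δ (⊥ : Subfield K) K L) =
      EGA41.imperfection (⊥ : Subfield K) K L :=
    (LinearMap.exact_iff.mp (H1Cotangent.exact_δ_mapBaseChange (⊥ : Subfield K) K L)).symm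
  exact (LinearEquiv.ofInjective _ hinj).trans (LinearEquiv.ofEq _ _ hrange)

/-- `Υ_{L/K} ≅ H₁(L_{L/K})`. -/
noncomputable def imperfectionEquivH1Cotangent :
    EGA41.imperfection ℤ K L ≃ₗ[L] H1Cotangent K L :=
  (imperfectionIntEquivBot K L).trans (h1CotangentEquivImperfectionBot K L).symm

end

end Groth.Agent.H5.Car
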