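import Mathlib

set_option autoImplicit false
universe u

namespace Groth.Agent.H5.Idx

variable {F : Type*} [Field F]

/-- rank–nullity when only the kernel and the range are known to be finite-dimensional. -/
theorem finite_of_ker_range {X Y : Type*} [AddCommGroup X] [Module F X] [AddCommGroup Y]
    [Module F Y] (φ : X →ₗ[F] Y) [Module.Finite F (LinearMap.ker φ)]
    [Module.Finite F (LinearMap.range φ)] :
    Module.Finite F X ∧
      Module.finrank F X = Module.finrank F (LinearMap.ker φ) + Module.finrank F (LinearMap.range φ) := by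
  haveI : Module.Finite F (X ⧸ LinearMap.ker φ) := Module.Finite.equiv φ.quotKerEquivRange.symm
  haveI : Module.Finite F X := Module.Finite.of_submodule_quotient (LinearMap.ker φ)
  refine ⟨inferInstance, ?_⟩
  rw [add_comm]
  exact (LinearMap.finrank_range_add_finrank_ker φ).symm

/-- a linear map has index `i`: finite-dimensional kernel and cokernel with
`dim coker - dim ker = i`. -/
def HasIndex {V W : Type*} [AddCommGroup V] [Module F V] [AddCommGroup W] [Module F W]
    (f : V →ₗ[F] W) (i : ℤ) : Prop :=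
  Module.Finite F (LinearMap.ker f) ∧ Module.Finite F (W ⧸ LinearMap.range f) ∧
    (Module.finrank F (W ⧸ LinearMap.range f) : ℤ) - Module.finrank F (LinearMap.ker f) = i

section comp
variable {V M U : Type*} [AddCommGroup V] [Module F V] [AddCommGroup M] [Module F M]
  [AddCommGroup U] [Module F U] (f : V →ₗ[F] M) (g : M →ₗ[F] U)

/-- **Additivity of the index.** -/
theorem HasIndex.comp {i j : ℤ} (hf : HasIndex f i) (hg : HasIndex g j) :
    HasIndex (g ∘ₗ f) (i + j) := by
  obtain ⟨hf1, hf2, hf3⟩ := hf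
  obtain ⟨hg1, hg2, hg3⟩ := hg
  let N := LinearMap.range f
  let C := LinearMap.ker g
  -- φ₁
  let φ₁ : LinearMap.ker (g ∘ₗ f) →ₗ[F] M := f ∘ₗ (LinearMap.ker (g ∘ₗ f)).subtype
  have hle : LinearMap.ker f ≤ LinearMap.ker (g ∘ₗ f) := by
    intro x hx
    rw [LinearMap.mem_ker] at hx ⊢
    rw [LinearMap.comp_apply, hx, map_zero]
  have hk1 : LinearMap.ker φ₁ = (LinearMap.ker f).comap (LinearMap.ker (g ∘ₗ f)).subtype :=
    LinearMap.ker_comp _ _
  have hr1 : LinearMap.range φ₁ = C ⊓ N := by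
    rw [LinearMap.range_comp, Submodule.range_subtype, LinearMap.ker_comp, Submodule.map_comap_eq,
      inf_comm]
  let e1 : LinearMap.ker φ₁ ≃ₗ[F] LinearMap.ker f :=
    (LinearEquiv.ofEq _ _ hk1).trans (Submodule.comapSubtypeEquivOfLe hle)
  haveI : Module.Finite F (LinearMap.ker φ₁) := Module.Finite.equiv e1.symm
  haveI : Module.Finite F ↥(C ⊓ N) := Submodule.finiteDimensional_of_le inf_le_left
  haveI : Module.Finite F (LinearMap.range φ₁) := by rw [hr1]; infer_instance
  obtain ⟨hfin1, hdim1⟩ := finite_of_ker_range φ₁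
  rw [e1.finrank_eq, hr1] at hdim1
  -- φ₂
  let φ₂ : C →ₗ[F] M ⧸ N := N.mkQ ∘ₗ C.subtype
  have hk2 : LinearMap.ker φ₂ = (C ⊓ N).comap C.subtype := by
    rw [LinearMap.ker_comp, Submodule.ker_mkQ, Submodule.comap_inf, Submodule.comap_subtype_self,
      top_inf_eq]
  let e2 : LinearMap.ker φ₂ ≃ₗ[F] ↥(C ⊓ N) :=
    (LinearEquiv.ofEq _ _ hk2).trans (Submodule.comapSubtypeEquivOfLe inf_le_left)
  let Q : Submodule F (M ⧸ N) := C.map N.mkQ
  have hr2 : LinearMap.range φ₂ = Q := by
    rw [LinearMap.range_comp, Submodule.range_subtype]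
  have hdim2 := LinearMap.finrank_range_add_finrank_ker φ₂
  rw [hr2, e2.finrank_eq] at hdim2
  -- φ₃
  have hle3 : N ≤ (LinearMap.range (g ∘ₗ f)).comap g := by
    rintro _ ⟨v, rfl⟩
    exact ⟨v, rfl⟩
  let φ₃ : (M ⧸ N) →ₗ[F] U ⧸ LinearMap.range (g ∘ₗ f) := N.mapQ _ g hle3
  have hk3 : LinearMap.ker φ₃ = Q := by
    show LinearMap.ker (N.liftQ _ _) = Q
    rw [Submodule.ker_liftQ, LinearMap.ker_comp, Submodule.ker_mkQ, LinearMap.range_comp,
      Submodule.comap_map_eq, Submodule.map_sup]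
    rw [Submodule.mkQ_map_self, bot_sup_eq]
  let Q' : Submodule F (U ⧸ LinearMap.range (g ∘ₗ f)) :=
    (LinearMap.range g).map (LinearMap.range (g ∘ₗ f)).mkQ
  have hr3 : LinearMap.range φ₃ = Q' := by
    show LinearMap.range (N.liftQ _ _) = Q'
    rw [Submodule.range_liftQ]
    exact LinearMap.range_comp g _
  haveI : Module.Finite F (LinearMap.range φ₃) := inferInstance
  have hdim3 := LinearMap.finrank_range_add_finrank_ker φ₃
  rw [hr3, hk3] at hdim3
  -- φ₄
  have hle4 : LinearMap.range (g ∘ₗ f) ≤ LinearMap.range g := by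
    rintro _ ⟨v, rfl⟩
    exact ⟨f v, rfl⟩
  let φ₄ : (U ⧸ LinearMap.range (g ∘ₗ f)) →ₗ[F] U ⧸ LinearMap.range g :=
    (LinearMap.range (g ∘ₗ f)).liftQ (LinearMap.range g).mkQ (by
      rw [Submodule.ker_mkQ]; exact hle4)
  have hk4 : LinearMap.ker φ₄ = Q' := by
    rw [Submodule.ker_liftQ, Submodule.ker_mkQ]
  have hr4 : LinearMap.range φ₄ = ⊤ := by
    rw [Submodule.range_liftQ, Submodule.range_mkQ]
  haveI : Module.Finite F ↥Q' := by rw [← hr3]; infer_instance
  haveI : Module.Finite F (LinearMap.ker φ₄) := by rw [hk4]; infer_instance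
  haveI : Module.Finite F (LinearMap.range φ₄) := by rw [hr4]; infer_instance
  obtain ⟨hfin4, hdim4⟩ := finite_of_ker_range φ₄
  rw [hk4, hr4, finrank_top] at hdim4
  refine ⟨hfin1, hfin4, ?_⟩
  have hd1 : (Module.finrank F (LinearMap.ker (g ∘ₗ f)) : ℤ) =
      Module.finrank F (LinearMap.ker f) + Module.finrank F ↥(C ⊓ N) := by exact_mod_cast hdim1
  have hd2 : (Module.finrank F ↥Q : ℤ) + Module.finrank F ↥(C ⊓ N) = Module.finrank F C := by
    exact_mod_cast hdim2
  have hd3 : (Module.finrank F ↥Q' : ℤ) + Module.finrank F ↥Q = Module.finrank F (M ⧸ N) := by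
    exact_mod_cast hdim3
  have hd4 : (Module.finrank F (U ⧸ LinearMap.range (g ∘ₗ f)) : ℤ) =
      Module.finrank F ↥Q' + Module.finrank F (U ⧸ LinearMap.range g) := by exact_mod_cast hdim4
  have hf3' : (Module.finrank F (M ⧸ N) : ℤ) - Module.finrank F (LinearMap.ker f) = i := hf3
  have hg3' : (Module.finrank F (U ⧸ LinearMap.range g) : ℤ) - Module.finrank F C = j := hg3
  omega

end comp

end Groth.Agent.H5.Idx
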