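import Mathlib
import Groth.Agent.Lib.Helper5.Car.Idx1

set_option autoImplicit false
universe u

namespace Groth.Agent.H5.Idx

variable {F : Type*} [Field F]

section
variable {A V W B : Type*} [AddCommMonoid A] [Module F A] [AddCommGroup V] [Module F V]
  [AddCommGroup W] [Module F W] [AddCommGroup B] [Module F B]

/-- index from a four-term exact sequence `A → V → W → B`. -/
theorem HasIndex.of_exact (p : A →ₗ[F] V) (f : V →ₗ[F] W) (q : W →ₗ[F] B)
    (h1 : Function.Exact p f) (h2 : Function.Exact f q)
    [Module.Finite F (LinearMap.range p)] [Module.Finite F (LinearMap.range q)] :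
    HasIndex f ((Module.finrank F (LinearMap.range q) : ℤ) - Module.finrank F (LinearMap.range p)) := by
  have hk : LinearMap.ker f = LinearMap.range p := LinearMap.exact_iff.mp h1
  have hr : LinearMap.ker q = LinearMap.range f := LinearMap.exact_iff.mp h2
  let e : (W ⧸ LinearMap.range f) ≃ₗ[F] LinearMap.range q :=
    (Submodule.quotEquivOfEq _ _ hr.symm).trans q.quotKerEquivRange
  refine ⟨?_, Module.Finite.equiv e.symm, ?_⟩
  · rw [hk]; infer_instance
  · rw [e.finrank_eq, hk]

theorem HasIndex.finite_ker {f : V →ₗ[F] W} {i : ℤ} (h : HasIndex f i) :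
    Module.Finite F (LinearMap.ker f) := h.1

theorem HasIndex.finite_coker {f : V →ₗ[F] W} {i : ℤ} (h : HasIndex f i) :
    Module.Finite F (W ⧸ LinearMap.range f) := h.2.1

theorem HasIndex.eq {f : V →ₗ[F] W} {i : ℤ} (h : HasIndex f i) :
    (Module.finrank F (W ⧸ LinearMap.range f) : ℤ) - Module.finrank F (LinearMap.ker f) = i := h.2.2

end

section
variable {A V : Type*} [AddCommGroup A] [Module F A] [AddCommGroup V] [Module F V]

/-- rank–nullity as an integer identity. -/
theorem finrank_range_eq_sub (p : A →ₗ[F] V) [Module.Finite F A] :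
    (Module.finrank F (LinearMap.range p) : ℤ) =
      Module.finrank F A - Module.finrank F (LinearMap.ker p) := by
  have := LinearMap.finrank_range_add_finrank_ker p
  omega

end

end Groth.Agent.H5.Idx
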