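import Mathlib
import Groth.Agent.Lib.Helper5.Car.Idx2

set_option autoImplicit false
universe u

namespace Groth.Agent.H5.Idx

variable {F : Type*} [Field F]

section comp
variable {V M U : Type*} [AddCommGroup V] [Module F V] [AddCommGroup M] [Module F M]
  [AddCommGroup U] [Module F U] (f : V →ₗ[F] M) (g : M →ₗ[F] U)

/-- if `g` and `g ∘ f` have an index, so does `f`. -/
theorem HasIndex.of_comp_right {j l : ℤ} (hg : HasIndex g j) (hgf : HasIndex (g ∘ₗ f) l) :
    HasIndex f (l - j) := by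
  obtain ⟨hg1, hg2, hg3⟩ := hg
  obtain ⟨hgf1, hgf2, hgf3⟩ := hgf
  have hle : LinearMap.ker f ≤ LinearMap.ker (g ∘ₗ f) := by
    intro x hx
    rw [LinearMap.mem_ker] at hx ⊢
    rw [LinearMap.comp_apply, hx, map_zero]
  haveI : Module.Finite F (LinearMap.ker f) := Submodule.finiteDimensional_of_le hle
  let N := LinearMap.range f
  let C := LinearMap.ker g
  have hle3 : N ≤ (LinearMap.range (g ∘ₗ f)).comap g := by
    rintro _ ⟨v, rfl⟩
    exact ⟨v, rfl⟩
  let φ₃ : (M ⧸ N) →ₗ[F] U ⧸ LinearMap.range (g ∘ₗ f) := N.mapQ _ g hle3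
  let Q : Submodule F (M ⧸ N) := C.map N.mkQ
  have hk3 : LinearMap.ker φ₃ = Q := by
    show LinearMap.ker (N.liftQ _ _) = Q
    rw [Submodule.ker_liftQ, LinearMap.ker_comp, Submodule.ker_mkQ, LinearMap.range_comp,
      Submodule.comap_map_eq, Submodule.map_sup]
    rw [Submodule.mkQ_map_self, bot_sup_eq]
  haveI : Module.Finite F ↥Q := Module.Finite.map C N.mkQ
  haveI : Module.Finite F (LinearMap.ker φ₃) := by rw [hk3]; infer_instance
  haveI : Module.Finite F (LinearMap.range φ₃) := inferInstance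
  obtain ⟨hfin, -⟩ := finite_of_ker_range φ₃
  have hf : HasIndex f ((Module.finrank F (M ⧸ N) : ℤ) - Module.finrank F (LinearMap.ker f)) :=
    ⟨inferInstance, hfin, rfl⟩
  have h2 := HasIndex.comp f g hf ⟨hg1, hg2, hg3⟩
  have h3 := h2.2.2
  have : (Module.finrank F (M ⧸ N) : ℤ) - Module.finrank F (LinearMap.ker f) = l - j := by
    rw [hgf3] at h3
    omega
  rw [← this]
  exact hf

end comp

end Groth.Agent.H5.Idx
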