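import Mathlib
import Groth.Agent.Lib.Helper5.CA.PSAdicSmooth2
import Groth.Agent.Lib.Helper5.CA.CoeffUniq

set_option autoImplicit false
universe u

open IsLocalRing TensorProduct

namespace Groth.Agent.H5.KD

section

/-- For a local ring containing a field, the conormal map `𝔪/𝔪² → K ⊗_A Ω_{A/ℤ}` of the residue
field is injective (the residue field is formally smooth over the prime field). -/
theorem kerCotangentToTensor_injective (k A : Type u) [Field k] [CommRing A] [IsLocalRing A]
    [Algebra k A] :
    Function.Injective (KaehlerDifferential.kerCotangentToTensor ℤ A (ResidueField A)) := by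
  let K := ResidueField A
  let P : Subfield k := ⊥
  haveI : PerfectField P := Groth.Agent.H5.CoeffUniq.perfectField_bot k
  haveI : Algebra.FormallySmooth P K := Groth.Agent.H5.CA.formallySmooth_of_perfectField P K
  let f : A →ₐ[P] K := IsScalarTower.toAlgHom P A K
  have hfs : Function.Surjective f.kerSquareLift := by
    intro κ
    obtain ⟨a, rfl⟩ := IsLocalRing.residue_surjective κ
    exact ⟨Ideal.Quotient.mk _ a, rfl⟩
  have hnil : IsNilpotent (RingHom.ker f.kerSquareLift.toRingHom) := by
    refine ⟨2, ?_⟩
    rw [AlgHom.ker_kerSquareLift]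
    exact Ideal.cotangentIdeal_square _
  let s : K →ₐ[P] A ⧸ RingHom.ker f.toRingHom ^ 2 :=
    Algebra.FormallySmooth.liftOfSurjective (AlgHom.id P K) f.kerSquareLift hfs hnil
  have hs : f.kerSquareLift.comp s = AlgHom.id P K :=
    Algebra.FormallySmooth.comp_liftOfSurjective _ _ hfs hnil
  let s' : K →ₐ[ℤ] A ⧸ RingHom.ker (algebraMap A K) ^ 2 := s.toRingHom.toIntAlgHom
  have hs' : (IsScalarTower.toAlgHom ℤ A K).kerSquareLift.comp s' = AlgHom.id ℤ K := by
    apply AlgHom.ext
    intro κ
    have h1 := congr($hs κ)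
    obtain ⟨b, hb⟩ := Ideal.Quotient.mk_surjective (s κ)
    show (IsScalarTower.toAlgHom ℤ A K).kerSquareLift (s κ) = κ
    rw [AlgHom.comp_apply, ← hb, AlgHom.kerSquareLift_mk] at h1
    rw [← hb]
    exact h1
  obtain ⟨l, hl⟩ := (retractionKerCotangentToTensorEquivSection (R := ℤ)
    (P := A) (S := K) IsLocalRing.residue_surjective).symm ⟨s', hs'⟩
  intro x y hxy
  have := congrArg l hxy
  rwa [← LinearMap.comp_apply, ← LinearMap.comp_apply, hl] at this

end

end Groth.Agent.H5.KD
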