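import Mathlib
import Groth.Agent.Lib.Helper5.Car.KD1
import Groth.Agent.Lib.Helper5.Car.Car1
import Groth.Agent.Lib.Helper5.Car.Idx3

set_option autoImplicit false
universe u

open IsLocalRing TensorProduct

namespace Groth.Agent.H5.KD

open Groth.Agent.H5.Idx Groth.Agent.H5.Car

/-- the index of `K ⊗_A Ω_{A/ℤ} → Ω_{K/ℤ}` for a regular local ring containing a field. -/
theorem hasIndex_mapBaseChange_residue (k A : Type u) [Field k] [CommRing A] [IsRegularLocalRing A]
    [Algebra k A] (n : ℕ) (hn : ringKrullDim A = n) :
    HasIndex (KaehlerDifferential.mapBaseChange ℤ A (ResidueField A)) (-(n : ℤ)) := by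
  let K := ResidueField A
  let γ := KaehlerDifferential.mapBaseChange ℤ A K
  let kct := KaehlerDifferential.kerCotangentToTensor ℤ A K
  have hsurj : Function.Surjective (algebraMap A K) := IsLocalRing.residue_surjective
  have hex : Function.Exact kct γ :=
    KaehlerDifferential.exact_kerCotangentToTensor_mapBaseChange ℤ A K hsurj
  have hγ : Function.Surjective γ := KaehlerDifferential.mapBaseChange_surjective ℤ A K hsurj
  have hinj : Function.Injective kct := kerCotangentToTensor_injective k A
  -- the `A`-linear equivalence `𝔪/𝔪² ≃ ker γ`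
  have hmem : ∀ c, kct c ∈ (LinearMap.ker γ).restrictScalars A := fun c => by
    rw [Submodule.restrictScalars_mem, LinearMap.mem_ker]
    exact hex.apply_apply_eq_zero c
  let g₀ : (RingHom.ker (algebraMap A K)).Cotangent →ₗ[A] ↥((LinearMap.ker γ).restrictScalars A) :=
    LinearMap.codRestrict _ kct hmem
  have hg₀ : Function.Bijective g₀ := by
    constructor
    · intro x y hxy
      apply hinj
      exact congrArg Subtype.val hxy
    · rintro ⟨z, hz⟩
      rw [Submodule.restrictScalars_mem, LinearMap.mem_ker] at hz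
      obtain ⟨c, hc⟩ := (hex z).mp hz
      exact ⟨c, Subtype.ext hc⟩
  let e₁ : (RingHom.ker (algebraMap A K)).Cotangent ≃ₗ[A] ↥(LinearMap.ker γ) :=
    (LinearEquiv.ofBijective g₀ hg₀).trans
      ((Submodule.restrictScalarsEquiv A K _ (LinearMap.ker γ)).restrictScalars A)
  have hker : RingHom.ker (algebraMap A K) = maximalIdeal A := IsLocalRing.ker_residue
  let e₂ : ↥(LinearMap.ker γ) ≃ₗ[A] (maximalIdeal A).Cotangent :=
    e₁.symm.trans (cotangentEquivOfEq _ _ hker)
  have hfin0 : Module.Finite A (maximalIdeal A).Cotangent :=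
    Module.Finite.of_surjective (maximalIdeal A).toCotangent (Ideal.toCotangent_surjective _)
  haveI : Module.Finite A ↥(LinearMap.ker γ) := Module.Finite.equiv e₂.symm
  haveI : Module.Finite K ↥(LinearMap.ker γ) := Module.Finite.of_restrictScalars_finite A K _
  have h1 : Module.finrank K ↥(LinearMap.ker γ) = Module.finrank K (CotangentSpace A) :=
    finrank_eq_of_linearEquiv_of_surjective (R := A) (L := K) (κ := K) hsurj hsurj rfl e₂
  have h2 : (Module.finrank K (CotangentSpace A) : WithBot ℕ∞) = ringKrullDim A :=
    (IsRegularLocalRing.iff_finrank_cotangentSpace A).mp inferInstance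
  rw [hn] at h2
  have h3 : Module.finrank K (CotangentSpace A) = n := by exact_mod_cast h2
  have hrange : LinearMap.range γ = ⊤ := LinearMap.range_eq_top.mpr hγ
  refine ⟨inferInstance, ?_, ?_⟩
  · rw [hrange]; infer_instance
  · rw [hrange, h1, h3]
    have : Module.finrank K (Ω[K⁄ℤ] ⧸ (⊤ : Submodule K Ω[K⁄ℤ])) = 0 := by
      apply Module.finrank_zero_of_subsingleton
    rw [this]
    simp

end Groth.Agent.H5.KD
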