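import Mathlib
import Groth.Prelude.Def_EGA41
import Groth.Prelude.Def_CAlgX
import Groth.Agent.Lib.Helper5.Car.KD2
import Groth.Agent.Lib.Helper5.Car.Car3
import Groth.Agent.Lib.Helper5.Car.Car5
import Groth.Agent.Lib.Helper5.Imp.Imp2
import Groth.Agent.Lib.Helper5.CA.GR2

set_option autoImplicit false
universe u

open IsLocalRing TensorProduct

namespace Groth.Agent.H5.KD

open Groth.Agent.H5.Idx Groth.Agent.H5.Car Groth.Agent.H5.Imp

section
variable {k K : Type u} [Field k] [Field K] [Algebra k K]

/-- the index of `K ⊗_k Ω_k → Ω_K` is `trdeg_k K` for a finitely generated extension. -/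
theorem hasIndex_mapBaseChange_field [Algebra.EssFiniteType k K] :
    HasIndex (KaehlerDifferential.mapBaseChange ℤ k K)
      (Cardinal.toNat (Algebra.trdeg k K) : ℤ) := by
  obtain ⟨h1, h2, h3⟩ := cartier_H1 (K := k) (L := K)
  let e := imperfectionEquivH1Cotangent k K
  haveI := h1; haveI := h2
  haveI hΥ : Module.Finite K (EGA41.imperfection ℤ k K) := Module.Finite.equiv e.symm
  let φ := KaehlerDifferential.mapBaseChange ℤ k K
  let π := KaehlerDifferential.map ℤ k K K
  have E1 : Function.Exact (LinearMap.ker φ).subtype φ := LinearMap.exact_subtype_ker_map φ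
  have E2 : Function.Exact φ π := KaehlerDifferential.exact_mapBaseChange_map ℤ k K
  have E3 : Function.Surjective π := KaehlerDifferential.map_surjective ℤ k K
  haveI : Module.Finite K (LinearMap.range (LinearMap.ker φ).subtype) := by
    rw [Submodule.range_subtype]; exact hΥ
  haveI : Module.Finite K (LinearMap.range π) := inferInstance
  have I := HasIndex.of_exact (LinearMap.ker φ).subtype φ π E1 E2
  have r1 : Module.finrank K (LinearMap.range π) = Module.finrank K Ω[K⁄k] := by
    rw [LinearMap.range_eq_top.mpr E3, finrank_top]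
  have r2 : Module.finrank K (LinearMap.range (LinearMap.ker φ).subtype) =
      Module.finrank K (Algebra.H1Cotangent k K) := by
    rw [Submodule.range_subtype]
    exact e.finrank_eq
  rw [r1, r2, h3] at I
  exact I

end

section
variable {k A : Type u} [Field k] [CommRing A] [IsLocalRing A] [IsNoetherianRing A] [Algebra k A]

omit [IsNoetherianRing A] in
theorem theta_tmul' (c : ResidueField A) (ω : Ω[k⁄ℤ]) :
    theta k (ResidueField A) A (c ⊗ₜ ω) = c ⊗ₜ (KaehlerDifferential.map ℤ ℤ k A ω) := by
  unfold theta
  rw [LinearMap.liftBaseChange_tmul]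
  simp only [LinearMap.comp_apply, LinearMap.restrictScalars_apply, TensorProduct.mk_apply]
  rw [TensorProduct.smul_tmul', smul_eq_mul, mul_one]

omit [IsNoetherianRing A] in
/-- `K ⊗_A Ω_{A/k}` is the cokernel of `θ`. -/
theorem exact_theta_baseChange_map :
    Function.Exact (theta k (ResidueField A) A)
      ((KaehlerDifferential.map ℤ k A A).baseChange (ResidueField A)) := by
  let K := ResidueField A
  let mbc := KaehlerDifferential.mapBaseChange ℤ k A
  let π := KaehlerDifferential.map ℤ k A A
  have E := KaehlerDifferential.exact_mapBaseChange_map ℤ k A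
  have E' := lTensor_exact K E (KaehlerDifferential.map_surjective ℤ k A)
  let τ := TensorProduct.AlgebraTensorModule.cancelBaseChange k A K K Ω[k⁄ℤ]
  have h1 : ∀ w, (mbc.lTensor K) w = theta k K A (τ w) := by
    intro w
    induction w using TensorProduct.induction_on with
    | zero => rw [map_zero, map_zero, map_zero]
    | tmul c y =>
      induction y using TensorProduct.induction_on with
      | zero => rw [TensorProduct.tmul_zero, map_zero, map_zero, map_zero]
      | tmul a ω =>
        rw [LinearMap.lTensor_tmul, TensorProduct.AlgebraTensorModule.cancelBaseChange_tmul,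
          theta_tmul', KaehlerDifferential.mapBaseChange_tmul, ← TensorProduct.smul_tmul]
      | add y₁ y₂ h₁ h₂ =>
        rw [TensorProduct.tmul_add, map_add, map_add, map_add, h₁, h₂]
    | add w₁ w₂ h₁ h₂ => rw [map_add, map_add, map_add, h₁, h₂]
  intro z
  have h2 : (π.baseChange K) z = (π.lTensor K) z := by
    rw [LinearMap.baseChange_eq_ltensor]
  rw [h2, E' z]
  constructor
  · rintro ⟨w, hw⟩
    exact ⟨τ w, by rw [← h1, hw]⟩
  · rintro ⟨v, hv⟩
    refine ⟨τ.symm v, ?_⟩
    rw [h1, τ.apply_symm_apply, hv]

/-- **Rank of the reduced module of differentials**: `dim_K (K ⊗_A Ω_{A/k}) = dim A + trdeg_k K`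
for a Noetherian local `k`-algebra adically formally smooth over `k` with finitely generated
residue field. -/
theorem finrank_residue_tensor_kaehler (hfs : CAlgX.IsAdicFormallySmooth k A (maximalIdeal A))
    [Algebra.EssFiniteType k (ResidueField A)] (n : ℕ) (hn : ringKrullDim A = n) :
    Module.Finite (ResidueField A) (ResidueField A ⊗[A] Ω[A⁄k]) ∧
      Module.finrank (ResidueField A) (ResidueField A ⊗[A] Ω[A⁄k]) =
        n + Cardinal.toNat (Algebra.trdeg k (ResidueField A)) := by
  let K := ResidueField A
  have hsurj : Function.Surjective (algebraMap A K) := IsLocalRing.residue_surjective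
  haveI : IsRegularLocalRing A := Groth.Agent.H5.GR.isRegularLocalRing_of_isAdicFormallySmooth k A hfs
  have Iγ := hasIndex_mapBaseChange_residue k A n hn
  have hcomp : (KaehlerDifferential.mapBaseChange ℤ A K).comp (theta k K A) =
      KaehlerDifferential.mapBaseChange ℤ k K := mapBaseChange_comp_theta
  have Iφ : HasIndex ((KaehlerDifferential.mapBaseChange ℤ A K).comp (theta k K A))
      (Cardinal.toNat (Algebra.trdeg k K) : ℤ) := by
    rw [hcomp]; exact hasIndex_mapBaseChange_field (k := k) (K := K)
  have Iθ := HasIndex.of_comp_right (theta k K A) (KaehlerDifferential.mapBaseChange ℤ A K) Iγ Iφ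
  have hinj : Function.Injective (theta k K A) := theta_injective hsurj hfs
  let π' := (KaehlerDifferential.map ℤ k A A).baseChange K
  have hπ' : Function.Surjective π' := by
    have : Function.Surjective ((KaehlerDifferential.map ℤ k A A).lTensor K) :=
      LinearMap.lTensor_surjective K (KaehlerDifferential.map_surjective ℤ k A)
    intro z
    obtain ⟨w, hw⟩ := this z
    exact ⟨w, by rw [← hw, LinearMap.baseChange_eq_ltensor]⟩
  have hex := exact_theta_baseChange_map (k := k) (A := A)
  let e : ((K ⊗[A] Ω[A⁄ℤ]) ⧸ LinearMap.range (theta k K A)) ≃ₗ[K] K ⊗[A] Ω[A⁄k] :=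
    (Submodule.quotEquivOfEq _ _ (LinearMap.exact_iff.mp hex).symm).trans
      (LinearMap.quotKerEquivOfSurjective π' hπ')
  haveI := Iθ.2.1
  refine ⟨Module.Finite.equiv e, ?_⟩
  rw [← e.finrank_eq]
  have h1 := Iθ.2.2
  have h2 : Module.finrank K (LinearMap.ker (theta k K A)) = 0 := by
    rw [LinearMap.ker_eq_bot.mpr hinj, finrank_bot]
  rw [h2] at h1
  have h3 : (Module.finrank K ((K ⊗[A] Ω[A⁄ℤ]) ⧸ LinearMap.range (theta k K A)) : ℤ) =
      n + Cardinal.toNat (Algebra.trdeg k K) := by
    push_cast at h1 ⊢
    linarith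
  exact_mod_cast h3

end

end Groth.Agent.H5.KD
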