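import Mathlib
import Groth.Agent.Lib.Helper5.Car.Car3
import Groth.Agent.Lib.Helper5.Car.Idx2

set_option autoImplicit false
universe u

open Algebra TensorProduct

namespace Groth.Agent.H5.Car

open Groth.Agent.H5.Idx

/-- descent of finite-dimensionality along a field extension. -/
theorem finite_of_finite_baseChange {K L V : Type u} [Field K] [Field L] [Algebra K L]
    [AddCommGroup V] [Module K V] (h : Module.Finite L (L ⊗[K] V)) : Module.Finite K V := by
  rw [← Module.rank_lt_aleph0_iff] at h ⊢
  rw [Module.rank_baseChange, Cardinal.lift_lt_aleph0] at h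
  exact h

/-- EGA 0_IV 21.7.? : `rank Ω_{L/k} - rank Ω_{K/k} ≥ trdeg_K L`. -/
theorem main4526 {k K L : Type u} [Field k] [Field K] [Field L]
    [Algebra k K] [Algebra K L] [Algebra k L] [IsScalarTower k K L] [Algebra.EssFiniteType k L] :
    Module.Finite L (Ω[L⁄k]) ∧ Module.Finite K (Ω[K⁄k]) ∧
      (Cardinal.toNat (Algebra.trdeg K L) : ℤ) ≤
        (Module.finrank L (Ω[L⁄k]) : ℤ) - Module.finrank K (Ω[K⁄k]) := by
  haveI : Algebra.EssFiniteType K L := Algebra.EssFiniteType.of_comp k K L
  obtain ⟨hΩ, -, -⟩ := cartier_H1 (K := k) (L := L)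
  obtain ⟨ha, hh, hah⟩ := cartier_H1 (K := K) (L := L)
  haveI := hΩ; haveI := ha; haveI := hh
  let δ := Algebra.H1Cotangent.δ k K L
  let α₁ := KaehlerDifferential.mapBaseChange k K L
  let π := KaehlerDifferential.map k K L L
  have E3 : Function.Exact δ α₁ := Algebra.H1Cotangent.exact_δ_mapBaseChange k K L
  have E4 : Function.Exact α₁ π := KaehlerDifferential.exact_mapBaseChange_map k K L
  have E5 : Function.Surjective π := KaehlerDifferential.map_surjective k K L
  haveI : Module.Finite L (LinearMap.ker α₁) := by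
    rw [LinearMap.exact_iff.mp E3]; infer_instance
  haveI : Module.Finite L (LinearMap.range α₁) := inferInstance
  obtain ⟨hfin, hdim⟩ := finite_of_ker_range α₁
  have hK : Module.Finite K (Ω[K⁄k]) := finite_of_finite_baseChange (L := L) hfin
  refine ⟨hΩ, hK, ?_⟩
  have r1 : Module.finrank L (L ⊗[K] Ω[K⁄k]) = Module.finrank K Ω[K⁄k] := Module.finrank_baseChange
  have r2 := LinearMap.finrank_range_add_finrank_ker π
  rw [LinearMap.range_eq_top.mpr E5, finrank_top, LinearMap.exact_iff.mp E4] at r2
  have r3 : Module.finrank L (LinearMap.ker α₁) ≤ Module.finrank L (H1Cotangent K L) := by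
    rw [LinearMap.exact_iff.mp E3]
    exact LinearMap.finrank_range_le _
  rw [← hah]
  omega

end Groth.Agent.H5.Car
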