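import Mathlib
import Groth.Prelude.Def_CAlgX
import Groth.Agent.Lib.Helper5.PB.PB17

set_option autoImplicit false
universe u

open TrivSqZeroExt

namespace Groth.Agent.H5.DL

open H5.PB

attribute [local instance] opMod isCentralScalar_opMod

section
variable {R S S' : Type u} [CommRing R] [CommRing S] [CommRing S'] [Algebra R S] [Algebra S S']
  [Algebra R S'] [IsScalarTower R S S']
  {N' N : Type u} [AddCommGroup N'] [AddCommGroup N] [Module S N'] [Module S N]
  [Module S' N'] [Module S' N] [IsScalarTower S S' N'] [IsScalarTower S S' N]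
  [Module R N] [IsScalarTower R S N] [Module R N'] [IsScalarTower R S N']

/-- the ring map `s ↦ (s̄, D s)`. -/
noncomputable def rhoD (D : Derivation R S N) : S →+* TrivSqZeroExt S' N where
  toFun s := (algebraMap S S' s, D s)
  map_one' := by
    apply TrivSqZeroExt.ext
    · show algebraMap S S' 1 = 1
      exact map_one _
    · show D 1 = 0
      exact D.map_one_eq_zero
  map_mul' a b := by
    apply TrivSqZeroExt.ext
    · show algebraMap S S' (a * b) = _
      rw [TrivSqZeroExt.fst_mul, map_mul]; rfl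
    · show D (a * b) = _
      rw [TrivSqZeroExt.snd_mul, Derivation.leibniz]
      show a • D b + b • D a = algebraMap S S' a • D b + algebraMap S S' b • D a
      rw [algebraMap_smul, algebraMap_smul]
  map_zero' := by
    apply TrivSqZeroExt.ext
    · show algebraMap S S' 0 = 0
      exact map_zero _
    · show D 0 = 0
      exact map_zero D
  map_add' a b := by
    apply TrivSqZeroExt.ext
    · show algebraMap S S' (a + b) = _
      rw [TrivSqZeroExt.fst_add, map_add]; rfl
    · show D (a + b) = _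
      rw [TrivSqZeroExt.snd_add, map_add]; rfl

theorem fst_rhoD (D : Derivation R S N) (s : S) :
    (rhoD (S' := S') D s).fst = algebraMap S S' s := rfl
theorem snd_rhoD (D : Derivation R S N) (s : S) : (rhoD (S' := S') D s).snd = D s := rfl

theorem ker_map_sq (π : N' →ₗ[S'] N) :
    (RingHom.ker (TrivSqZeroExt.map π).toRingHom) ^ 2 = ⊥ := by
  rw [pow_two, eq_bot_iff, Ideal.mul_le]
  intro x hx y hy
  have hx' : ((TrivSqZeroExt.map π) x).fst = 0 := by
    have : (TrivSqZeroExt.map π) x = 0 := hx
    rw [this]; rfl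
  have hy' : ((TrivSqZeroExt.map π) y).fst = 0 := by
    have : (TrivSqZeroExt.map π) y = 0 := hy
    rw [this]; rfl
  rw [TrivSqZeroExt.fst_map] at hx' hy'
  rw [Ideal.mem_bot]
  apply TrivSqZeroExt.ext
  · rw [TrivSqZeroExt.fst_mul, hx', zero_mul]; rfl
  · rw [TrivSqZeroExt.snd_mul, hx', hy']
    show (0 : S') • _ + (0 : S') • _ = (0 : N')
    rw [zero_smul, zero_smul, add_zero]

theorem map_surjective (π : N' →ₗ[S'] N) (hπ : Function.Surjective π) :
    Function.Surjective (TrivSqZeroExt.map π).toRingHom := by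
  intro t
  obtain ⟨m, hm⟩ := hπ t.snd
  refine ⟨(t.fst, m), ?_⟩
  apply TrivSqZeroExt.ext
  · show ((TrivSqZeroExt.map π) (t.fst, m)).fst = _
    rw [TrivSqZeroExt.fst_map]; rfl
  · show ((TrivSqZeroExt.map π) (t.fst, m)).snd = _
    rw [TrivSqZeroExt.snd_map]; exact hm

variable (R N') in
/-- `TrivSqZeroExt S' N'` as an `R`-algebra. -/
@[reducible] noncomputable def algT : Algebra R (TrivSqZeroExt S' N') :=
  ((algebraMap S' (TrivSqZeroExt S' N')).comp (algebraMap R S')).toAlgebra


theorem exists_derivation_lift_aux (𝔫 : Ideal S) (h : CAlgX.IsAdicFormallySmooth R S 𝔫)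
    (j : ℕ) (hj : ∀ x ∈ 𝔫 ^ j, algebraMap S S' x = 0)
    (π : N' →ₗ[S'] N) (hπ : Function.Surjective π) (D : Derivation R S N) :
    ∃ D' : Derivation R S N', ∀ s, π (D' s) = D s := by
  classical
  have hjN : ∀ x ∈ 𝔫 ^ j, ∀ m : N, x • m = 0 := by
    intro x hx m
    rw [← algebraMap_smul S' x m, hj x hx, zero_smul]
  let qr : TrivSqZeroExt S' N' →+* TrivSqZeroExt S' N := (TrivSqZeroExt.map π).toRingHom
  have hqr : ∀ t, qr t = TrivSqZeroExt.map π t := fun t => rfl
  have hq : Function.Surjective qr := map_surjective π hπ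
  have hJ0 : (RingHom.ker qr) ^ 2 = ⊥ := ker_map_sq π
  have fst_qr : ∀ t, (qr t).fst = t.fst := fun t => by rw [hqr, TrivSqZeroExt.fst_map]
  have snd_qr : ∀ t, (qr t).snd = π t.snd := fun t => by rw [hqr, TrivSqZeroExt.snd_map]
  have qr_inl : ∀ c, qr (TrivSqZeroExt.inl c) = TrivSqZeroExt.inl c := fun c => by
    rw [hqr, TrivSqZeroExt.map_inl]
  clear_value qr
  letI : Algebra R (TrivSqZeroExt S' N') := algT R N'
  have algT_def : ∀ r : R, algebraMap R (TrivSqZeroExt S' N') r =
    TrivSqZeroExt.inl (algebraMap R S' r) := fun r => rfl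
  let J : Ideal (TrivSqZeroExt S' N') := RingHom.ker qr
  have hJ : J ^ 2 = ⊥ := hJ0
  let e : (TrivSqZeroExt S' N' ⧸ J) ≃+* TrivSqZeroExt S' N :=
    RingHom.quotientKerEquivOfSurjective (f := qr) hq
  have he : ∀ t : TrivSqZeroExt S' N', e (Ideal.Quotient.mk J t) = qr t := fun t => rfl
  let ρ : S →+* TrivSqZeroExt S' N := rhoD D
  have hρ_alg : ∀ r : R, ρ (algebraMap R S r) = qr (algebraMap R (TrivSqZeroExt S' N') r) := by
    intro r
    rw [algT_def, qr_inl]
    apply TrivSqZeroExt.ext
    · show algebraMap S S' (algebraMap R S r) = algebraMap R S' r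
      rw [← IsScalarTower.algebraMap_apply]
    · show D (algebraMap R S r) = 0
      exact D.map_algebraMap r
  let ψ : S →ₐ[R] TrivSqZeroExt S' N' ⧸ J :=
    { toRingHom := (e.symm : TrivSqZeroExt S' N →+* TrivSqZeroExt S' N' ⧸ J).comp ρ
      commutes' := by
        intro r
        show e.symm (ρ (algebraMap R S r)) =
          Ideal.Quotient.mk J (algebraMap R (TrivSqZeroExt S' N') r)
        rw [RingEquiv.symm_apply_eq, he, hρ_alg] }
  have hψ : ∀ s, ψ s = e.symm (ρ s) := fun s => rfl
  have hDzero : ∀ x ∈ 𝔫 ^ (2 * j), D x = 0 := by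
    intro x hx
    rw [two_mul, pow_add] at hx
    refine Submodule.mul_induction_on hx ?_ ?_
    · intro a ha b hb
      rw [Derivation.leibniz, hjN a ha, hjN b hb, add_zero]
    · intro a b ha hb
      rw [map_add, ha, hb, add_zero]
  obtain ⟨χ, hχ⟩ := h (TrivSqZeroExt S' N') J hJ ψ ⟨2 * j, by
    intro x hx
    rw [hψ]
    have h1 : ρ x = 0 := by
      apply TrivSqZeroExt.ext
      · show algebraMap S S' x = 0
        exact hj x (Ideal.pow_le_pow_right (by omega) hx)
      · show D x = 0
        exact hDzero x hx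
    rw [h1, map_zero]⟩
  have hqχ : ∀ s, qr (χ s) = ρ s := by
    intro s
    have h1 : Ideal.Quotient.mk J (χ s) = ψ s := congrArg (fun φ => φ s) hχ
    rw [← he, h1, hψ, RingEquiv.apply_symm_apply]
  have hfst : ∀ s, (χ s).fst = algebraMap S S' s := by
    intro s
    have := congrArg TrivSqZeroExt.fst (hqχ s)
    rw [fst_qr] at this
    exact this
  have hsnd : ∀ s, π ((χ s).snd) = D s := by
    intro s
    have := congrArg TrivSqZeroExt.snd (hqχ s)
    rw [snd_qr] at this
    exact this
  have hleib : ∀ a b : S, (χ (a * b)).snd = a • (χ b).snd + b • (χ a).snd := by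
    intro a b
    rw [map_mul, TrivSqZeroExt.snd_mul, hfst a, hfst b]
    show algebraMap S S' a • (χ b).snd + algebraMap S S' b • (χ a).snd = _
    rw [algebraMap_smul, algebraMap_smul]
  have hsnd_alg : ∀ r : R, (χ (algebraMap R S r)).snd = 0 := by
    intro r
    rw [χ.commutes, algT_def]
    rfl
  let D' : Derivation R S N' :=
    { toLinearMap :=
        { toFun := fun s => (χ s).snd
          map_add' := fun a b => by rw [map_add]; rfl
          map_smul' := fun r s => by
            rw [Algebra.smul_def, hleib, hsnd_alg, smul_zero, add_zero, RingHom.id_apply,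
              algebraMap_smul] }
      map_one_eq_zero' := by
        show (χ 1).snd = 0
        rw [map_one]; rfl
      leibniz' := fun a b => hleib a b }
  exact ⟨D', hsnd⟩

end

section
variable {R S : Type u} [CommRing R] [CommRing S] [Algebra R S]
  {N' N : Type u} [AddCommGroup N'] [AddCommGroup N] [Module S N'] [Module S N]
  [Module R N] [IsScalarTower R S N] [Module R N'] [IsScalarTower R S N']

/-- **Lifting of derivations** for adically formally smooth algebras: if `R → S` is formally smooth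
for the `𝔫`-adic topology, `N' → N` is a surjection of `S`-modules and `N'` is killed by a power of
`𝔫`, every `R`-derivation `S → N` lifts to `N'`. -/
theorem exists_derivation_lift (𝔫 : Ideal S) (h : CAlgX.IsAdicFormallySmooth R S 𝔫)
    (j : ℕ) (hj : ∀ x ∈ 𝔫 ^ j, ∀ m : N', x • m = 0)
    (π : N' →ₗ[S] N) (hπ : Function.Surjective π) (D : Derivation R S N) :
    ∃ D' : Derivation R S N', ∀ s, π (D' s) = D s := by
  classical
  have hN' : Module.IsTorsionBySet S N' ((𝔫 ^ j : Ideal S) : Set S) := fun m a => hj a.1 a.2 m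
  have hjN : ∀ x ∈ 𝔫 ^ j, ∀ m : N, x • m = 0 := by
    intro x hx m
    obtain ⟨m', rfl⟩ := hπ m
    rw [← map_smul, hj x hx, map_zero]
  have hN : Module.IsTorsionBySet S N ((𝔫 ^ j : Ideal S) : Set S) := fun m a => hjN a.1 a.2 m
  letI mN' : Module (S ⧸ 𝔫 ^ j) N' := hN'.module
  letI mN : Module (S ⧸ 𝔫 ^ j) N := hN.module
  haveI : IsScalarTower S (S ⧸ 𝔫 ^ j) N' := ⟨fun a b m => by
    obtain ⟨b, rfl⟩ := Ideal.Quotient.mk_surjective b
    show (Ideal.Quotient.mk _ (a * b)) • m = a • (Ideal.Quotient.mk _ b • m)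
    show (a * b) • m = a • (b • m)
    rw [mul_smul]⟩
  haveI : IsScalarTower S (S ⧸ 𝔫 ^ j) N := ⟨fun a b m => by
    obtain ⟨b, rfl⟩ := Ideal.Quotient.mk_surjective b
    show (Ideal.Quotient.mk _ (a * b)) • m = a • (Ideal.Quotient.mk _ b • m)
    show (a * b) • m = a • (b • m)
    rw [mul_smul]⟩
  let π' : N' →ₗ[S ⧸ 𝔫 ^ j] N :=
    { toFun := π
      map_add' := π.map_add
      map_smul' := by
        intro c m
        obtain ⟨s, rfl⟩ := Ideal.Quotient.mk_surjective c
        show π (s • m) = s • π m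
        rw [map_smul] }
  exact exists_derivation_lift_aux (S' := S ⧸ 𝔫 ^ j) 𝔫 h j
    (fun x hx => Ideal.Quotient.eq_zero_iff_mem.mpr hx) π' hπ D

end

end Groth.Agent.H5.DL
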