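import Mathlib
import Groth.Agent.Lib.Helper5.CA.JZ2

set_option autoImplicit false
universe u

open TensorProduct

namespace Groth.Agent.H5.PK

section
variable (R k K L : Type*) [CommRing R] [CommRing k] [CommRing K] [CommRing L]
  [Algebra R k] [Algebra R K] [Algebra R L] [Algebra k K] [Algebra k L] [Algebra K L]
  [IsScalarTower R k K] [IsScalarTower R K L] [IsScalarTower k K L] [IsScalarTower R k L]

/-- the projection `L ⊗_K Ω_{K/R} → L ⊗_K Ω_{K/k}`. -/
noncomputable def rho : L ⊗[K] Ω[K⁄R] →ₗ[L] L ⊗[K] Ω[K⁄k] :=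
  ((KaehlerDifferential.map R k K K).restrictScalars K).baseChange L

theorem rho_tmul (l : L) (a : K) :
    rho R k K L (l ⊗ₜ KaehlerDifferential.D R K a) = l ⊗ₜ KaehlerDifferential.D k K a := by
  unfold rho
  rw [LinearMap.baseChange_tmul]
  congr 1
  exact KaehlerDifferential.map_D R k K K a

theorem rho_surjective : Function.Surjective (rho R k K L) := by
  unfold rho
  have h : Function.Surjective ((KaehlerDifferential.map R k K K).restrictScalars K) :=
    KaehlerDifferential.map_surjective R k K
  intro z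
  obtain ⟨w, hw⟩ := LinearMap.lTensor_surjective L h z
  exact ⟨w, by rw [LinearMap.baseChange_eq_ltensor]; exact hw⟩

/-- the comparison map `L ⊗_k Ω_{k/R} → L ⊗_K Ω_{K/R}`. -/
noncomputable def xi : L ⊗[k] Ω[k⁄R] →ₗ[L] L ⊗[K] Ω[K⁄R] :=
  LinearMap.liftBaseChange L
    (((TensorProduct.mk K L Ω[K⁄R] 1).restrictScalars k).comp (KaehlerDifferential.map R R k K))

theorem xi_tmul (c : L) (a : k) :
    xi R k K L (c ⊗ₜ KaehlerDifferential.D R k a) =
      c ⊗ₜ KaehlerDifferential.D R K (algebraMap k K a) := by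
  unfold xi
  rw [LinearMap.liftBaseChange_tmul]
  simp only [LinearMap.comp_apply, LinearMap.restrictScalars_apply, KaehlerDifferential.map_D,
    TensorProduct.mk_apply]
  rw [TensorProduct.smul_tmul', smul_eq_mul, mul_one]

theorem mapBaseChange_comp_xi :
    (KaehlerDifferential.mapBaseChange R K L).comp (xi R k K L) =
      KaehlerDifferential.mapBaseChange R k L := by
  apply H5.JZ.ext_tensor_kaehler
  intro a
  rw [LinearMap.comp_apply, xi_tmul, KaehlerDifferential.mapBaseChange_tmul,
    KaehlerDifferential.mapBaseChange_tmul, KaehlerDifferential.map_D, KaehlerDifferential.map_D,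
    ← IsScalarTower.algebraMap_apply]

theorem rho_comp_xi : (rho R k K L).comp (xi R k K L) = 0 := by
  apply H5.JZ.ext_tensor_kaehler
  intro a
  rw [LinearMap.comp_apply, xi_tmul, rho_tmul, Derivation.map_algebraMap, TensorProduct.tmul_zero,
    LinearMap.zero_apply]

/-- compatibility of the two conormal maps with the projections. -/
theorem mapBaseChange_comp_rho :
    (KaehlerDifferential.mapBaseChange k K L).comp (rho R k K L) =
      (KaehlerDifferential.map R k L L).comp (KaehlerDifferential.mapBaseChange R K L) := by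
  apply H5.JZ.ext_tensor_kaehler
  intro a
  rw [LinearMap.comp_apply, LinearMap.comp_apply, rho_tmul, KaehlerDifferential.mapBaseChange_tmul,
    KaehlerDifferential.mapBaseChange_tmul, KaehlerDifferential.map_D, KaehlerDifferential.map_D,
    map_smul, KaehlerDifferential.map_D]
  rfl

theorem mapBaseChange_rho (η : L ⊗[K] Ω[K⁄R]) :
    KaehlerDifferential.mapBaseChange k K L (rho R k K L η) =
      KaehlerDifferential.map R k L L (KaehlerDifferential.mapBaseChange R K L η) :=
  congrArg (fun f => f η) (mapBaseChange_comp_rho R k K L)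

/-- **surjectivity of `Υ_{L/K/R} → Υ_{L/K/k}`**. -/
theorem exists_mem_ker_rho_eq (ξ : L ⊗[K] Ω[K⁄k])
    (hξ : KaehlerDifferential.mapBaseChange k K L ξ = 0) :
    ∃ ζ : L ⊗[K] Ω[K⁄R], KaehlerDifferential.mapBaseChange R K L ζ = 0 ∧ rho R k K L ζ = ξ := by
  obtain ⟨ξ', hξ'⟩ := rho_surjective R k K L ξ
  have h1 : KaehlerDifferential.map R k L L (KaehlerDifferential.mapBaseChange R K L ξ') = 0 := by
    rw [← mapBaseChange_rho, hξ', hξ]
  have hex := KaehlerDifferential.exact_mapBaseChange_map R k L
  obtain ⟨w, hw⟩ := (hex _).mp h1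
  refine ⟨ξ' - xi R k K L w, ?_, ?_⟩
  · rw [map_sub, sub_eq_zero, ← hw]
    exact (congrArg (fun f => f w) (mapBaseChange_comp_xi R k K L)).symm
  · rw [map_sub, hξ']
    have : rho R k K L (xi R k K L w) = 0 := congrArg (fun f => f w) (rho_comp_xi R k K L)
    rw [this, sub_zero]

end

end Groth.Agent.H5.PK
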