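import Mathlib
import Groth.Agent.Lib.Helper5.Car.KD1
import Groth.Agent.Lib.Helper5.FSm.Flatness

set_option autoImplicit false
universe u

open IsLocalRing TensorProduct

namespace Groth.Agent.H5.BX

section
variable {R : Type u} [CommRing R] [IsLocalRing R] {M : Type u} [AddCommGroup M] [Module R M]

/-- over a local ring, a family in a finite free module whose reduction is linearly independent
is part of a basis. -/
theorem exists_basis_extending [Module.Free R M] [Module.Finite R M] {N : ℕ} (v : Fin N → M)
    (hv : LinearIndependent (ResidueField R) (TensorProduct.mk R (ResidueField R) M 1 ∘ v)) :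
    ∃ (ι : Type u) (b : Module.Basis ι R M) (e : Fin N ↪ ι), ∀ i, b (e i) = v i := by
  classical
  set K := ResidueField R
  set V := K ⊗[R] M
  set w : Fin N → V := TensorProduct.mk R K M 1 ∘ v with hw
  have hwinj : Function.Injective w := hv.injective
  have hs : LinearIndepOn K id (Set.range w) := hv.linearIndepOn_id
  let bK := Module.Basis.extend hs
  let ι := ↥(hs.extend (Set.subset_univ (Set.range w)))
  have hbK : ∀ t : ι, bK t = t.1 := fun t => Module.Basis.extend_apply_self hs t
  have hex : ∀ z : V, ∃ m : M, z = (1 : K) ⊗ₜ[R] m :=
    fun z => Groth.Agent.H5.FSm.exists_one_tmul (maximalIdeal R) z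
  let u : ι → M := fun t => if h : ∃ i, w i = t.1 then v h.choose else (hex t.1).choose
  have hu : ∀ t : ι, (1 : K) ⊗ₜ[R] u t = t.1 := by
    intro t
    by_cases h : ∃ i, w i = t.1
    · simp only [u, dif_pos h]
      exact h.choose_spec
    · simp only [u, dif_neg h]
      exact ((hex t.1).choose_spec).symm
  have hfun : TensorProduct.mk R K M 1 ∘ u = bK := by
    funext t
    rw [hbK]
    exact hu t
  have hli : LinearIndependent K (TensorProduct.mk R K M 1 ∘ u) := by
    rw [hfun]; exact bK.linearIndependent
  have hsp : Submodule.span K (Set.range (TensorProduct.mk R K M 1 ∘ u)) = ⊤ := by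
    rw [hfun]; exact bK.span_eq
  have H : Function.Injective ((maximalIdeal R).subtype.rTensor M) :=
    Module.Flat.rTensor_preserves_injective_linearMap _ Subtype.val_injective
  haveI : Module.FinitePresentation R M := Module.finitePresentation_of_projective R M
  obtain ⟨b, hb⟩ := Module.exists_basis_of_basis_baseChange u hli hsp H
  let e : Fin N ↪ ι :=
    ⟨fun i => ⟨w i, hs.subset_extend _ (Set.mem_range_self i)⟩, fun i j hij => by
      have : w i = w j := congrArg Subtype.val hij
      exact hwinj this⟩
  refine ⟨ι, b, e, fun i => ?_⟩
  rw [hb]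
  have h : ∃ i', w i' = (e i).1 := ⟨i, rfl⟩
  simp only [u, dif_pos h]
  have := h.choose_spec
  exact congrArg v (hwinj this)

end

section
variable {A : Type u} [CommRing A] [IsRegularLocalRing A]

/-- a regular system of parameters gives linearly independent elements of the cotangent space. -/
theorem linearIndependent_cotangent {N : ℕ} (x : Fin N → A)
    (hx : Ideal.span (Set.range x) = maximalIdeal A) (hN : ringKrullDim A = (N : WithBot ℕ∞))
    (hmem : ∀ i, x i ∈ maximalIdeal A) :
    LinearIndependent (ResidueField A)
      (fun i => (maximalIdeal A).toCotangent ⟨x i, hmem i⟩ : Fin N → CotangentSpace A) := by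
  have hfr : Module.finrank (ResidueField A) (CotangentSpace A) = N := by
    have := (IsRegularLocalRing.iff_finrank_cotangentSpace A).mp inferInstance
    rw [hN] at this
    exact_mod_cast this
  apply linearIndependent_of_top_le_span_of_card_eq_finrank
  · rw [top_le_iff]
    have h1 : Set.range (fun i => (maximalIdeal A).toCotangent ⟨x i, hmem i⟩) =
        (maximalIdeal A).toCotangent '' (Set.range fun i => (⟨x i, hmem i⟩ : maximalIdeal A)) := by
      rw [← Set.range_comp]; rfl
    rw [h1, IsLocalRing.CotangentSpace.span_image_eq_top_iff]
    apply Submodule.map_injective_of_injective (maximalIdeal A).injective_subtype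
    rw [Submodule.map_span, ← Set.range_comp, Submodule.map_top, Submodule.range_subtype]
    exact hx
  · rw [Fintype.card_fin, hfr]

end

end Groth.Agent.H5.BX
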