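import Mathlib
import Groth.Agent.Lib.Helper5.Car.BX1

set_option autoImplicit false
universe u

open IsLocalRing TensorProduct

namespace Groth.Agent.H5.BX

section
variable {A : Type u} [CommRing A] [IsRegularLocalRing A]

/-- the differentials of a regular system of parameters are linearly independent in `K ⊗ Ω_A`. -/
theorem linearIndependent_one_tmul_D (k : Type u) [Field k] [Algebra k A] {N : ℕ} (x : Fin N → A)
    (hx : Ideal.span (Set.range x) = maximalIdeal A) (hN : ringKrullDim A = (N : WithBot ℕ∞)) :
    LinearIndependent (ResidueField A)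
      (TensorProduct.mk A (ResidueField A) Ω[A⁄ℤ] 1 ∘ (fun i => KaehlerDifferential.D ℤ A (x i))) := by
  classical
  set K := ResidueField A
  have hmem : ∀ i, x i ∈ maximalIdeal A := fun i => by
    rw [← hx]; exact Ideal.subset_span (Set.mem_range_self i)
  have hLI := linearIndependent_cotangent x hx hN hmem
  have hinj := Groth.Agent.H5.KD.kerCotangentToTensor_injective k A
  have hI : RingHom.ker (algebraMap A K) = maximalIdeal A := IsLocalRing.ker_residue
  rw [Fintype.linearIndependent_iff]
  intro c hc
  choose a ha using fun i => residue_surjective (R := A) (c i)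
  have hres : ∀ (b : A) (z : K ⊗[A] Ω[A⁄ℤ]), b • z = (residue A b) • z := fun b z =>
    (algebraMap_smul K b z).symm
  set y : A := ∑ i, a i * x i with hy
  have hym : y ∈ maximalIdeal A := Ideal.sum_mem _ fun i _ => Ideal.mul_mem_left _ _ (hmem i)
  have hyI : y ∈ RingHom.ker (algebraMap A K) := by rw [hI]; exact hym
  have h1 : KaehlerDifferential.kerCotangentToTensor ℤ A K
      ((RingHom.ker (algebraMap A K)).toCotangent ⟨y, hyI⟩) = 0 := by
    rw [KaehlerDifferential.kerCotangentToTensor_toCotangent]
    show (1 : K) ⊗ₜ[A] KaehlerDifferential.D ℤ A y = 0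
    rw [hy, map_sum, TensorProduct.tmul_sum]
    have h2 : ∀ i, (1 : K) ⊗ₜ[A] KaehlerDifferential.D ℤ A (a i * x i) =
        c i • ((1 : K) ⊗ₜ[A] KaehlerDifferential.D ℤ A (x i)) := by
      intro i
      rw [Derivation.leibniz, TensorProduct.tmul_add, TensorProduct.tmul_smul,
        TensorProduct.tmul_smul, hres, hres, ha]
      have : residue A (x i) = 0 := (residue_eq_zero_iff _).mpr (hmem i)
      rw [this, zero_smul, add_zero]
    rw [Finset.sum_congr rfl fun i _ => h2 i]
    exact hc
  have h3 : (RingHom.ker (algebraMap A K)).toCotangent ⟨y, hyI⟩ = 0 :=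
    hinj (h1.trans (map_zero _).symm)
  have hy2 : y ∈ maximalIdeal A ^ 2 := by
    have : y ∈ RingHom.ker (algebraMap A K) ^ 2 := (Ideal.toCotangent_eq_zero _ _).mp h3
    rw [hI] at this
    exact this
  have h4 : (maximalIdeal A).toCotangent ⟨y, hym⟩ = 0 := by
    rw [Ideal.toCotangent_eq_zero]; exact hy2
  have h5 : (⟨y, hym⟩ : maximalIdeal A) = ∑ i, a i • (⟨x i, hmem i⟩ : maximalIdeal A) := by
    apply Subtype.ext
    rw [Submodule.coe_sum]
    rfl
  rw [h5, map_sum] at h4
  have h6 : ∑ i, c i • ((maximalIdeal A).toCotangent ⟨x i, hmem i⟩ : CotangentSpace A) = 0 := by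
    rw [← h4]
    refine Finset.sum_congr rfl fun i _ => ?_
    rw [map_smul, ← ha i]
    exact (algebraMap_smul (ResidueField A) (a i) _)
  exact Fintype.linearIndependent_iff.mp hLI c h6

end

end Groth.Agent.H5.BX
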