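import Mathlib

set_option autoImplicit false
universe u

open Algebra TensorProduct KaehlerDifferential MvPolynomial

namespace Groth.Agent.H5.Car

open Algebra.Generators Algebra.Generators.H1Cotangent

section
variable {R S T T' : Type u} [CommRing R] [CommRing S] [Algebra R S]
  [CommRing T] [Algebra R T] [Algebra S T] [IsScalarTower R S T]
  [CommRing T'] [Algebra R T'] [Algebra S T'] [IsScalarTower R S T']
  [Algebra T T'] [IsScalarTower S T T']

variable (R S T T') in
/-- the comparison map `T ⊗ Ω → T' ⊗ Ω`. -/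
noncomputable def tauMap : T ⊗[S] Ω[S⁄R] →ₗ[T] T' ⊗[S] Ω[S⁄R] :=
  TensorProduct.AlgebraTensorModule.map (Algebra.linearMap T T') LinearMap.id

omit [Algebra R T] [IsScalarTower R S T] [Algebra R T'] [IsScalarTower R S T'] in
theorem tauMap_tmul (t : T) (ω : Ω[S⁄R]) :
    tauMap R S T T' (t ⊗ₜ ω) = (algebraMap T T' t) ⊗ₜ ω := rfl

variable {ι ι' : Type u} (Q : Generators S T ι) (Q' : Generators S T' ι') (f : Hom Q Q')

/-- naturality of `δAux` for a hom sending variables to variables. -/
theorem δAux_toAlgHom_of_X (hf : ∀ i, ∃ j, f.val i = X j) (x : Q.Ring) :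
    δAux R Q' (f.toAlgHom x) = tauMap R S T T' (δAux R Q x) := by
  induction x using MvPolynomial.induction_on with
  | C s =>
    rw [Hom.toAlgHom_C, δAux_C, δAux_C, tauMap_tmul, map_one, Algebra.algebraMap_self_apply]
  | add x₁ x₂ h₁ h₂ => rw [map_add, map_add, h₁, h₂, map_add, map_add]
  | mul_X p i IH =>
    obtain ⟨j, hj⟩ := hf i
    rw [map_mul, Hom.toAlgHom_X, hj, δAux_mul, δAux_X, smul_zero, zero_add, IH, δAux_mul, δAux_X,
      smul_zero, zero_add]
    -- scalar actions
    generalize δAux R Q p = z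
    have h1 : algebraMap Q'.Ring T' (X j) = algebraMap T T' (algebraMap Q.Ring T (X i)) := by
      have := f.aeval_val i
      rw [hj] at this
      rw [Generators.algebraMap_apply, this, Generators.algebraMap_apply, aeval_X]
    have e1 : ∀ (q : Q'.Ring) (w : T' ⊗[S] Ω[S⁄R]), q • w = algebraMap Q'.Ring T' q • w :=
      fun q w => (algebraMap_smul T' q w).symm
    have e2 : ∀ (q : Q.Ring) (w : T ⊗[S] Ω[S⁄R]), q • w = algebraMap Q.Ring T q • w :=
      fun q w => (algebraMap_smul T q w).symm
    rw [e1, h1, e2, LinearMap.map_smul, algebraMap_smul]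

variable {σ : Type u} (P : Generators R S σ)

set_option backward.isDefEq.respectTransparency false in
/-- naturality of the connecting map `δ` in the top ring. -/
theorem δ_map_of_X (hf : ∀ i, ∃ j, f.val i = X j) (x : Q.toExtension.H1Cotangent) :
    δ Q' P (Extension.H1Cotangent.map f.toExtensionHom x) = tauMap R S T T' (δ Q P x) := by
  obtain ⟨x, hx⟩ := x
  obtain ⟨⟨y, hy⟩, rfl⟩ := Extension.Cotangent.mk_surjective x
  change δ _ _ ⟨_, _⟩ = tauMap R S T T' (δ _ _ ⟨_, _⟩)
  simp only [LinearMap.domRestrict_apply, Extension.Cotangent.map_mk, δ_eq_δAux]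
  exact δAux_toAlgHom_of_X Q Q' f hf y

variable (R S T T') in
/-- naturality of the Jacobi–Zariski connecting map. -/
theorem h1Cotangent_δ_map (x : H1Cotangent S T) :
    Algebra.H1Cotangent.δ R S T' (Algebra.H1Cotangent.map S S T T' x) =
      tauMap R S T T' (Algebra.H1Cotangent.δ R S T x) :=
  δ_map_of_X (Generators.self S T) (Generators.self S T')
    (Generators.defaultHom (Generators.self S T) (Generators.self S T'))
    (Generators.self R S) (fun i => ⟨algebraMap T T' i, rfl⟩) x

end

end Groth.Agent.H5.Car
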