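import Mathlib
import Groth.Agent.Lib.Helper5.Car.Car5
import Groth.Agent.Lib.Helper5.Car.Car6

set_option autoImplicit false
universe u

open Algebra TensorProduct

namespace Groth.Agent.H5.Car

section
variable (K L : Type u) [Field K] [Field L] [Algebra K L]

/-- the Jacobi–Zariski connecting map over the prime field is injective. -/
theorem delta_bot_injective :
    Function.Injective (H1Cotangent.δ (⊥ : Subfield K) K L) := by
  haveI : PerfectField (⊥ : Subfield K) := Groth.Agent.H5.CoeffUniq.perfectField_bot K
  haveI : Algebra.FormallySmooth (⊥ : Subfield K) L :=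
    Groth.Agent.H5.CA.formallySmooth_of_perfectField (⊥ : Subfield K) L
  haveI : Subsingleton (H1Cotangent (⊥ : Subfield K) L) :=
    Algebra.FormallySmooth.subsingleton_h1Cotangent
  rw [← LinearMap.ker_eq_bot, (LinearMap.exact_iff.mp (H1Cotangent.exact_map_δ (⊥ : Subfield K) K L)),
    LinearMap.range_eq_bot]
  exact Subsingleton.elim _ _

end

section
variable {K L M : Type u} [Field K] [Field L] [Field M] [Algebra K L] [Algebra L M] [Algebra K M]
  [IsScalarTower K L M]

/-- **Stacks 07BU-type injectivity**: `H₁(L_{L/K}) ⊗_L M → H₁(L_{M/K})` is injective for fields. -/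
theorem h1Cotangent_liftBaseChange_injective :
    Function.Injective ((Algebra.H1Cotangent.map K K L M).liftBaseChange M) := by
  let P : Subfield K := ⊥
  let δL := H1Cotangent.δ P K L
  let δM := H1Cotangent.δ P K M
  have hδL : Function.Injective δL := delta_bot_injective K L
  let τ := tauMap P K L M
  let Ψ : M ⊗[L] H1Cotangent K L →ₗ[M] M ⊗[K] Ω[K⁄P] := (τ ∘ₗ δL).liftBaseChange M
  -- Claim 1
  have h1 : ∀ z, δM ((Algebra.H1Cotangent.map K K L M).liftBaseChange M z) = Ψ z := by
    intro z
    induction z using TensorProduct.induction_on with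
    | zero => rw [map_zero, map_zero, map_zero]
    | tmul m x =>
      rw [LinearMap.liftBaseChange_tmul, LinearMap.liftBaseChange_tmul, map_smul]
      congr 1
      exact h1Cotangent_δ_map P K L M x
    | add a b ha hb => rw [map_add, map_add, map_add, ha, hb]
  -- Claim 2
  have h2 : Function.Injective Ψ := by
    have h3 : Function.Injective (δL.baseChange M) := by
      rw [LinearMap.baseChange_eq_ltensor]
      exact Module.Flat.lTensor_preserves_injective_linearMap δL hδL
    let c := TensorProduct.AlgebraTensorModule.cancelBaseChange K L M M Ω[K⁄P]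
    have h4 : ∀ (m : M) (w : L ⊗[K] Ω[K⁄P]), c (m ⊗ₜ w) = m • τ w := by
      intro m w
      induction w using TensorProduct.induction_on with
      | zero => rw [TensorProduct.tmul_zero, map_zero, map_zero, smul_zero]
      | tmul l ω =>
        rw [TensorProduct.AlgebraTensorModule.cancelBaseChange_tmul, tauMap_tmul,
          TensorProduct.smul_tmul', smul_eq_mul, Algebra.smul_def, mul_comm]
      | add a b ha hb => rw [TensorProduct.tmul_add, map_add, map_add, ha, hb, smul_add]
    have h5 : Ψ = c.toLinearMap ∘ₗ (δL.baseChange M) := by
      apply TensorProduct.AlgebraTensorModule.ext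
      intro m x
      rw [LinearMap.comp_apply, LinearMap.baseChange_tmul, LinearMap.liftBaseChange_tmul]
      exact (h4 m (δL x)).symm
    rw [h5]
    exact c.injective.comp h3
  intro z z' hzz'
  apply h2
  rw [← h1, ← h1, hzz']

end

end Groth.Agent.H5.Car
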