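import Mathlib
import Groth.Agent.Lib.Helper5.Car.Car3
import Groth.Agent.Lib.Helper5.Car.Car7
import Groth.Agent.Lib.Helper5.Car.Idx2
import Groth.Agent.Lib.Helper5.CA.JZ2

set_option autoImplicit false
universe u

open Algebra TensorProduct

namespace Groth.Agent.H5.Car

open Groth.Agent.H5.Idx

section
variable {k k' K K' : Type u} [Field k] [Field k'] [Field K] [Field K'] [Algebra k k']
  [Algebra k K] [Algebra k K'] [Algebra k' K'] [Algebra K K'] [IsScalarTower k k' K']
  [IsScalarTower k K K']

theorem kaehler_liftBaseChange_eq_comp :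
    (KaehlerDifferential.map k k' K K').liftBaseChange K' =
      (KaehlerDifferential.map k k' K' K') ∘ₗ (KaehlerDifferential.mapBaseChange k K K') := by
  apply H5.JZ.ext_tensor_kaehler
  intro a
  rw [LinearMap.liftBaseChange_tmul, one_smul, LinearMap.comp_apply,
    KaehlerDifferential.mapBaseChange_tmul, one_smul, KaehlerDifferential.map_D,
    KaehlerDifferential.map_D, KaehlerDifferential.map_D, Algebra.algebraMap_self_apply]

theorem h1Cotangent_map_comp (x : H1Cotangent k K) :
    Algebra.H1Cotangent.map k k' K K' x =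
      Algebra.H1Cotangent.map k k' K' K' (Algebra.H1Cotangent.map k k K K' x) := by
  show _ = ((Algebra.H1Cotangent.map k k' K' K').restrictScalars K ∘ₗ
    Algebra.H1Cotangent.map k k K K') x
  rw [Algebra.H1Cotangent.map, Algebra.H1Cotangent.map, Algebra.H1Cotangent.map,
    ← Extension.H1Cotangent.map_comp, Extension.H1Cotangent.map_eq]

theorem h1Cotangent_liftBaseChange_eq_comp :
    (Algebra.H1Cotangent.map k k' K K').liftBaseChange K' =
      (Algebra.H1Cotangent.map k k' K' K') ∘ₗ
        ((Algebra.H1Cotangent.map k k K K').liftBaseChange K') := by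
  apply TensorProduct.AlgebraTensorModule.ext
  intro m x
  rw [LinearMap.liftBaseChange_tmul, LinearMap.comp_apply, LinearMap.liftBaseChange_tmul,
    map_smul, h1Cotangent_map_comp]

variable (k k' K K') in
/-- **Stacks 07E1**: the index formula for a square of finitely generated field extensions. -/
theorem index_square [EssFiniteType k k'] [EssFiniteType K K'] :
    ∃ iα iβ : ℤ, HasIndex ((KaehlerDifferential.map k k' K K').liftBaseChange K') iα ∧
      HasIndex ((Algebra.H1Cotangent.map k k' K K').liftBaseChange K') iβ ∧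
      iβ - iα = (Cardinal.toNat (Algebra.trdeg k k') : ℤ) - Cardinal.toNat (Algebra.trdeg K K') := by
  obtain ⟨ha, hh, hah⟩ := cartier_H1 (K := K) (L := K')
  obtain ⟨ha', hh', hah'⟩ := cartier_H1 (K := k) (L := k')
  -- the maps
  let α₁ := KaehlerDifferential.mapBaseChange k K K'
  let α₂ := KaehlerDifferential.map k k' K' K'
  let β₁ := (Algebra.H1Cotangent.map k k K K').liftBaseChange K'
  let β₂ := Algebra.H1Cotangent.map k k' K' K'
  let μ := Algebra.H1Cotangent.map k K K' K'
  let δ := Algebra.H1Cotangent.δ k K K'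
  let π := KaehlerDifferential.map k K K' K'
  let ν := (Algebra.H1Cotangent.map k k k' K').liftBaseChange K'
  let δ' := Algebra.H1Cotangent.δ k k' K'
  let ρ := KaehlerDifferential.mapBaseChange k k' K'
  have E1 : Function.Exact β₁ μ := Algebra.H1Cotangent.exact_liftBaseChange_map_of_flat k K K'
  have E2 : Function.Exact μ δ := Algebra.H1Cotangent.exact_map_δ k K K'
  have E3 : Function.Exact δ α₁ := Algebra.H1Cotangent.exact_δ_mapBaseChange k K K'
  have E4 : Function.Exact α₁ π := KaehlerDifferential.exact_mapBaseChange_map k K K'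
  have E5 : Function.Surjective π := KaehlerDifferential.map_surjective k K K'
  have E1' : Function.Exact ν β₂ := Algebra.H1Cotangent.exact_liftBaseChange_map_of_flat k k' K'
  have E2' : Function.Exact β₂ δ' := Algebra.H1Cotangent.exact_map_δ k k' K'
  have E3' : Function.Exact δ' ρ := Algebra.H1Cotangent.exact_δ_mapBaseChange k k' K'
  have E4' : Function.Exact ρ α₂ := KaehlerDifferential.exact_mapBaseChange_map k k' K'
  have E5' : Function.Surjective α₂ := KaehlerDifferential.map_surjective k k' K'
  have hβ₁ : Function.Injective β₁ := h1Cotangent_liftBaseChange_injective (K := k) (L := K) (M := K')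
  have hν : Function.Injective ν := h1Cotangent_liftBaseChange_injective (K := k) (L := k') (M := K')
  -- finiteness
  haveI := ha; haveI := hh; haveI := ha'; haveI := hh'
  haveI : Module.Finite K' (LinearMap.range π) := inferInstance
  haveI : Module.Finite K' (LinearMap.range δ) := inferInstance
  haveI : Module.Finite K' (LinearMap.range μ) := inferInstance
  haveI : Module.Finite K' (K' ⊗[k'] H1Cotangent k k') := inferInstance
  haveI : Module.Finite K' (K' ⊗[k'] Ω[k'⁄k]) := inferInstance
  haveI : Module.Finite K' (LinearMap.range ν) := inferInstance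
  haveI : Module.Finite K' (LinearMap.range ρ) := inferInstance
  haveI : Module.Finite K' (LinearMap.range δ') := by
    rw [← LinearMap.exact_iff.mp E3']
    infer_instance
  haveI : Module.Finite K' (LinearMap.range
      (0 : K' ⊗[K] H1Cotangent k K →ₗ[K'] K' ⊗[K] H1Cotangent k K)) := by
    rw [LinearMap.range_zero]; infer_instance
  haveI : Module.Finite K' (LinearMap.range (0 : Ω[K'⁄k'] →ₗ[K'] Ω[K'⁄k'])) := by
    rw [LinearMap.range_zero]; infer_instance
  -- indices
  have Iα₁ := HasIndex.of_exact δ α₁ π E3 E4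
  have Iβ₁ := HasIndex.of_exact (0 : K' ⊗[K] H1Cotangent k K →ₗ[K'] K' ⊗[K] H1Cotangent k K) β₁ μ
    ((LinearMap.exact_zero_iff_injective _ β₁).mpr hβ₁) E1
  have Iα₂ := HasIndex.of_exact ρ α₂ (0 : Ω[K'⁄k'] →ₗ[K'] Ω[K'⁄k']) E4'
    ((LinearMap.exact_zero_iff_surjective _ α₂).mpr E5')
  have Iβ₂ := HasIndex.of_exact ν β₂ δ' E1' E2'
  have Iα := HasIndex.comp α₁ α₂ Iα₁ Iα₂
  have Iβ := HasIndex.comp β₁ β₂ Iβ₁ Iβ₂
  rw [← kaehler_liftBaseChange_eq_comp] at Iα
  rw [← h1Cotangent_liftBaseChange_eq_comp] at Iβ
  refine ⟨_, _, Iα, Iβ, ?_⟩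
  -- arithmetic
  have r1 : (Module.finrank K' (LinearMap.range π) : ℤ) = Module.finrank K' Ω[K'⁄K] := by
    rw [LinearMap.range_eq_top.mpr E5, finrank_top]
  have r2 := finrank_range_eq_sub δ
  rw [LinearMap.exact_iff.mp E2] at r2
  have r3 : (Module.finrank K' (LinearMap.range
      (0 : K' ⊗[K] H1Cotangent k K →ₗ[K'] K' ⊗[K] H1Cotangent k K)) : ℤ) = 0 := by
    rw [LinearMap.range_zero, finrank_bot]; rfl
  have r4 : (Module.finrank K' (LinearMap.range (0 : Ω[K'⁄k'] →ₗ[K'] Ω[K'⁄k'])) : ℤ) = 0 := by
    rw [LinearMap.range_zero, finrank_bot]; rfl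
  have r5 := finrank_range_eq_sub ρ
  rw [LinearMap.exact_iff.mp E3'] at r5
  have r6 : Module.finrank K' (K' ⊗[k'] Ω[k'⁄k]) = Module.finrank k' Ω[k'⁄k] :=
    Module.finrank_baseChange
  have r7 : Module.finrank K' (LinearMap.range ν) = Module.finrank K' (K' ⊗[k'] H1Cotangent k k') :=
    LinearMap.finrank_range_of_inj hν
  have r8 : Module.finrank K' (K' ⊗[k'] H1Cotangent k k') = Module.finrank k' (H1Cotangent k k') :=
    Module.finrank_baseChange
  rw [← hah, ← hah', r1, r2, r3, r4, r5, r6, r7, r8]
  ring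

end

end Groth.Agent.H5.Car
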