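import Mathlib

set_option autoImplicit false
universe u

open IsLocalRing

namespace Groth.Agent.H5.FR

section
variable {A : Type*} [CommRing A] [IsLocalRing A] {M : Type*} [AddCommGroup M] [Module A M]
  {d : ℕ} (ω : Fin d → M)

/-- `range Φ + 𝔪^j M = M` for all `j` if it holds for `j = 1`. -/
theorem range_sup_pow_smul_top (I : Ideal A) (N : Submodule A M)
    (h1 : N ⊔ I • (⊤ : Submodule A M) = ⊤) (j : ℕ) :
    N ⊔ (I ^ j) • (⊤ : Submodule A M) = ⊤ := by
  induction j with
  | zero => rw [pow_zero, Ideal.one_eq_top, Submodule.top_smul, sup_top_eq]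
  | succ j ih =>
    rw [eq_top_iff]
    have h2 : (I ^ j) • (⊤ : Submodule A M) ≤ N ⊔ (I ^ (j + 1)) • (⊤ : Submodule A M) := by
      conv_lhs => rw [← h1]
      rw [Submodule.smul_sup]
      refine sup_le ?_ ?_
      · exact le_trans Submodule.smul_le_right le_sup_left
      · rw [← Submodule.mul_smul, ← pow_succ]
        exact le_sup_right
    calc (⊤ : Submodule A M) = N ⊔ (I ^ j) • (⊤ : Submodule A M) := ih.symm
      _ ≤ N ⊔ (I ^ (j + 1)) • (⊤ : Submodule A M) := sup_le le_sup_left h2

/-- a matrix congruent to the identity modulo the maximal ideal is invertible. -/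
theorem isUnit_det_of_congr_one (U : Matrix (Fin d) (Fin d) A)
    (hU : ∀ i k, U i k - (if i = k then 1 else 0) ∈ maximalIdeal A) : IsUnit U.det := by
  have h1 : (residue A) U.det = 1 := by
    rw [RingHom.map_det]
    have : (residue A).mapMatrix U = 1 := by
      ext i k
      rw [RingHom.mapMatrix_apply, Matrix.map_apply, Matrix.one_apply]
      have := hU i k
      rw [← Ideal.Quotient.eq] at this
      refine this.trans ?_
      split_ifs
      · exact map_one _
      · exact map_zero _
    rw [this, Matrix.det_one]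
  by_contra hne
  have : U.det ∈ maximalIdeal A := (IsLocalRing.mem_maximalIdeal _).mpr hne
  rw [← IsLocalRing.residue_eq_zero_iff] at this
  rw [this] at h1
  exact zero_ne_one h1

/-- if `x U` has entries in an ideal and `U` is invertible, then `x` has entries in the ideal. -/
theorem mem_of_vecMul_mem (I : Ideal A) (U : Matrix (Fin d) (Fin d) A) (hU : IsUnit U.det)
    (x : Fin d → A) (hx : ∀ k, (Matrix.vecMul x U) k ∈ I) (i : Fin d) : x i ∈ I := by
  have h1 : x = Matrix.vecMul (Matrix.vecMul x U) U⁻¹ := by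
    rw [Matrix.vecMul_vecMul, Matrix.mul_nonsing_inv U hU, Matrix.vecMul_one]
  rw [h1]
  show (∑ k, (Matrix.vecMul x U) k * U⁻¹ k i) ∈ I
  exact Ideal.sum_mem _ fun k _ => Ideal.mul_mem_right _ _ (hx k)

end

section
variable {A : Type u} [CommRing A] [IsLocalRing A] {M : Type u} [AddCommGroup M] [Module A M]
  {d : ℕ} (ω : Fin d → M)

/-- **Formally projective modules with finite-dimensional fibre have free completions.** -/
theorem exists_linearEquiv_adicCompletion [IsAdicComplete (maximalIdeal A) A]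
    (h1 : LinearMap.range (Fintype.linearCombination A ω) ⊔
      (maximalIdeal A) • (⊤ : Submodule A M) = ⊤)
    (h2 : ∀ j : ℕ, 1 ≤ j → ∃ (L : M →ₗ[A] (Fin d → A ⧸ (maximalIdeal A) ^ j))
      (U : Matrix (Fin d) (Fin d) A), (∀ i k, L (ω i) k = Ideal.Quotient.mk _ (U i k)) ∧
        ∀ i k, U i k - (if i = k then 1 else 0) ∈ maximalIdeal A) :
    Nonempty ((Fin d → A) ≃ₗ[A] AdicCompletion (maximalIdeal A) M) := by
  classical
  set 𝔪 := maximalIdeal A with h𝔪
  let Φ : (Fin d → A) →ₗ[A] M := Fintype.linearCombination A ω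
  have hΦ : ∀ x, Φ x = ∑ i, x i • ω i := fun x => Fintype.linearCombination_apply A ω x
  -- Step E
  have hE : ∀ j : ℕ, ∀ x : Fin d → A, Φ x ∈ (𝔪 ^ j) • (⊤ : Submodule A M) → ∀ i, x i ∈ 𝔪 ^ j := by
    intro j x hx i
    rcases Nat.eq_zero_or_pos j with rfl | hj
    · rw [pow_zero, Ideal.one_eq_top]; trivial
    obtain ⟨L, U, hLU, hU⟩ := h2 j hj
    have hL0 : ∀ m ∈ (𝔪 ^ j) • (⊤ : Submodule A M), L m = 0 := by
      intro m hm
      refine Submodule.smul_induction_on hm ?_ ?_
      · intro a ha n _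
        rw [map_smul]
        funext k
        show a • (L n k) = 0
        rw [Algebra.smul_def, Ideal.Quotient.algebraMap_eq, Ideal.Quotient.eq_zero_iff_mem.mpr ha,
          zero_mul]
      · intro a b ha hb
        rw [map_add, ha, hb, add_zero]
    have h3 : ∀ k, (Matrix.vecMul x U) k ∈ 𝔪 ^ j := by
      intro k
      rw [← Ideal.Quotient.eq_zero_iff_mem]
      have h4 := congrFun (hL0 _ hx) k
      rw [hΦ, map_sum] at h4
      rw [Finset.sum_apply] at h4
      show Ideal.Quotient.mk (𝔪 ^ j) (∑ i, x i * U i k) = 0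
      rw [map_sum]
      refine Eq.trans ?_ h4
      refine Finset.sum_congr rfl fun i _ => ?_
      rw [map_smul, Pi.smul_apply, hLU, map_mul]
      rfl
    exact mem_of_vecMul_mem (𝔪 ^ j) U (isUnit_det_of_congr_one U hU) x h3 i
  -- Step F
  have hF : ∀ j : ℕ, ∀ m : M, ∃ x : Fin d → A, m - Φ x ∈ (𝔪 ^ j) • (⊤ : Submodule A M) := by
    intro j m
    have := range_sup_pow_smul_top 𝔪 (LinearMap.range Φ) h1 j
    have hm : m ∈ LinearMap.range Φ ⊔ (𝔪 ^ j) • (⊤ : Submodule A M) := by rw [this]; trivial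
    obtain ⟨y, ⟨x, rfl⟩, z, hz, rfl⟩ := Submodule.mem_sup.mp hm
    exact ⟨x, by rw [add_sub_cancel_left]; exact hz⟩
  let Ψ : (Fin d → A) →ₗ[A] AdicCompletion 𝔪 M := (AdicCompletion.of 𝔪 M).comp Φ
  have hΨ : ∀ x j, (Ψ x).val j = Submodule.Quotient.mk (Φ x) := fun x j => rfl
  have hinj : Function.Injective Ψ := by
    rw [injective_iff_map_eq_zero]
    intro x hx
    funext i
    apply IsHausdorff.haus' (I := 𝔪) (M := A)
    intro n
    rw [SModEq.zero, smul_eq_mul, Ideal.mul_top]
    refine hE n x ?_ i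
    have := congrArg (fun y => y.val n) hx
    simp only [hΨ] at this
    exact (Submodule.Quotient.mk_eq_zero _).mp this
  have hsurj : Function.Surjective Ψ := by
    intro y
    choose xs hxs using fun j => hF j
    -- pick lifts of the components of `y`
    choose ys hys using fun j => Submodule.Quotient.mk_surjective _ (y.val j)
    let x : ℕ → Fin d → A := fun j => xs j (ys j)
    have hx : ∀ j, Submodule.Quotient.mk (p := (𝔪 ^ j) • (⊤ : Submodule A M)) (Φ (x j)) = y.val j := by
      intro j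
      rw [← hys j, eq_comm, Submodule.Quotient.eq]
      exact hxs j (ys j)
    have hcauchy : ∀ i, ∀ {m n : ℕ}, m ≤ n → x m i ≡ x n i [SMOD (𝔪 ^ m • ⊤ : Submodule A A)] := by
      intro i m n hmn
      rw [SModEq.sub_mem, smul_eq_mul, Ideal.mul_top]
      have h5 : Φ (x m - x n) ∈ (𝔪 ^ m) • (⊤ : Submodule A M) := by
        rw [map_sub, ← Submodule.Quotient.eq, hx m]
        have h6 := y.property hmn
        rw [← hx n] at h6
        rw [← h6]
        rfl
      exact hE m (x m - x n) h5 i
    choose l hl using fun i => IsPrecomplete.prec' (I := 𝔪) (M := A) (fun j => x j i) (hcauchy i)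
    refine ⟨l, ?_⟩
    apply AdicCompletion.ext
    intro j
    rw [hΨ, ← hx j, Submodule.Quotient.eq, ← map_sub, hΦ]
    refine Submodule.sum_mem _ fun i _ => ?_
    refine Submodule.smul_mem_smul ?_ trivial
    have := hl i j
    rw [SModEq.sub_mem, smul_eq_mul, Ideal.mul_top] at this
    have h7 : (l - x j) i = -(x j i - l i) := by
      rw [Pi.sub_apply, neg_sub]
    rw [h7]
    exact neg_mem this
  exact ⟨LinearEquiv.ofBijective Ψ ⟨hinj, hsurj⟩⟩

end

end Groth.Agent.H5.FR
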