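import Mathlib
import Groth.Prelude.Def_CAlgX
import Groth.Agent.Lib.Helper5.Car.FR1
import Groth.Agent.Lib.Helper5.Car.DL1
import Groth.Agent.Lib.Helper5.FSm.Flatness

set_option autoImplicit false
universe u

open IsLocalRing TensorProduct

namespace Groth.Agent.H5.FR

section
variable {k₀ A : Type u} [Field k₀] [CommRing A] [IsLocalRing A] [Algebra k₀ A]

/-- the completed module of differentials of a complete local ring formally smooth over a field
is free of rank `dim_K (K ⊗ Ω)` whenever the latter is finite. -/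
theorem exists_linearEquiv_completedKaehler [IsAdicComplete (maximalIdeal A) A]
    (hfs : CAlgX.IsAdicFormallySmooth k₀ A (maximalIdeal A)) (d : ℕ)
    [Module.Finite (ResidueField A) (ResidueField A ⊗[A] Ω[A⁄k₀])]
    (hd : Module.finrank (ResidueField A) (ResidueField A ⊗[A] Ω[A⁄k₀]) = d) :
    Nonempty ((Fin d → A) ≃ₗ[A] AdicCompletion (maximalIdeal A) Ω[A⁄k₀]) := by
  classical
  set K := ResidueField A with hK
  set 𝔪 := maximalIdeal A with h𝔪
  haveI : Module.Free (ResidueField A) (ResidueField A ⊗[A] Ω[A⁄k₀]) :=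
    Module.Free.of_divisionRing _ _
  let b : Module.Basis (Fin d) K (K ⊗[A] Ω[A⁄k₀]) := Module.finBasisOfFinrankEq K _ hd
  have hex : ∀ z : K ⊗[A] Ω[A⁄k₀], ∃ w : Ω[A⁄k₀], z = (1 : K) ⊗ₜ[A] w :=
    fun z => Groth.Agent.H5.FSm.exists_one_tmul 𝔪 z
  choose ω hω using fun i => hex (b i)
  have hzero : ∀ w : Ω[A⁄k₀], (1 : K) ⊗ₜ[A] w = 0 → w ∈ (𝔪 • ⊤ : Submodule A Ω[A⁄k₀]) :=
    fun w hw => (Groth.Agent.H5.FSm.one_tmul_eq_zero_iff 𝔪 w).mp hw
  have hsm : ∀ (a : A) (z : K ⊗[A] Ω[A⁄k₀]), a • z = (residue A a) • z := by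
    intro a z
    exact (algebraMap_smul K a z).symm
  -- (H1)
  have h1 : LinearMap.range (Fintype.linearCombination A ω) ⊔ 𝔪 • (⊤ : Submodule A Ω[A⁄k₀]) = ⊤ := by
    rw [eq_top_iff]
    intro w _
    choose a ha using fun i => residue_surjective (R := A) (b.repr ((1 : K) ⊗ₜ[A] w) i)
    have h3 : (1 : K) ⊗ₜ[A] (w - Fintype.linearCombination A ω a) = 0 := by
      rw [TensorProduct.tmul_sub, Fintype.linearCombination_apply, TensorProduct.tmul_sum, sub_eq_zero]
      conv_lhs => rw [← b.sum_repr ((1 : K) ⊗ₜ[A] w)]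
      refine Finset.sum_congr rfl fun i _ => ?_
      rw [TensorProduct.tmul_smul, hsm, ha, hω]
    have h4 := hzero _ h3
    have h5 : w = Fintype.linearCombination A ω a + (w - Fintype.linearCombination A ω a) := by
      rw [add_sub_cancel]
    rw [h5]
    exact Submodule.add_mem_sup ⟨a, rfl⟩ h4
  -- the linear form
  let lam : Ω[A⁄k₀] →ₗ[A] (Fin d → K) :=
    (b.equivFun.toLinearMap.restrictScalars A).comp (TensorProduct.mk A K Ω[A⁄k₀] 1)
  have hlam : ∀ w, lam w = b.equivFun ((1 : K) ⊗ₜ[A] w) := fun w => rfl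
  let D₀ : Derivation k₀ A (Fin d → K) := lam.compDer (KaehlerDifferential.D k₀ A)
  have hD₀ : ∀ a, D₀ a = lam (KaehlerDifferential.D k₀ A a) := fun a => rfl
  -- (H2)
  have h2 : ∀ j : ℕ, 1 ≤ j → ∃ (L : Ω[A⁄k₀] →ₗ[A] (Fin d → A ⧸ 𝔪 ^ j))
      (U : Matrix (Fin d) (Fin d) A), (∀ i k, L (ω i) k = Ideal.Quotient.mk _ (U i k)) ∧
        ∀ i k, U i k - (if i = k then 1 else 0) ∈ 𝔪 := by
    intro j hj
    have hle : 𝔪 ^ j ≤ 𝔪 := Ideal.pow_le_self (by omega)
    let fac : (A ⧸ 𝔪 ^ j) →ₗ[A] K := (Ideal.Quotient.factorₐ A hle).toLinearMap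
    have hfac : ∀ a : A, fac (Ideal.Quotient.mk _ a) = residue A a := fun a => rfl
    let π : (Fin d → A ⧸ 𝔪 ^ j) →ₗ[A] (Fin d → K) := fac.compLeft (Fin d)
    have hπ : Function.Surjective π := by
      intro v
      choose u hu using fun k => Ideal.Quotient.factor_surjective hle (v k)
      exact ⟨u, funext hu⟩
    have hkill : ∀ x ∈ 𝔪 ^ j, ∀ m : Fin d → A ⧸ 𝔪 ^ j, x • m = 0 := by
      intro x hx m
      funext k
      show x • m k = 0
      rw [Algebra.smul_def, Ideal.Quotient.algebraMap_eq, Ideal.Quotient.eq_zero_iff_mem.mpr hx,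
        zero_mul]
    obtain ⟨D', hD'⟩ := Groth.Agent.H5.DL.exists_derivation_lift 𝔪 hfs j hkill π hπ D₀
    let L : Ω[A⁄k₀] →ₗ[A] (Fin d → A ⧸ 𝔪 ^ j) := D'.liftKaehlerDifferential
    have hπL : π.comp L = lam := by
      apply Derivation.liftKaehlerDifferential_unique
      ext a : 1
      show π (L (KaehlerDifferential.D k₀ A a)) = lam (KaehlerDifferential.D k₀ A a)
      rw [Derivation.liftKaehlerDifferential_comp_D, hD', hD₀]
    choose U hU using fun i k => Ideal.Quotient.mk_surjective (L (ω i) k)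
    refine ⟨L, Matrix.of U, fun i k => (hU i k).symm, fun i k => ?_⟩
    show U i k - _ ∈ 𝔪
    rw [← Ideal.Quotient.eq]
    show residue A (U i k) = residue A (if i = k then 1 else 0)
    rw [← hfac, hU]
    have h6 : fac (L (ω i) k) = (π.comp L) (ω i) k := rfl
    rw [h6, hπL, hlam, ← hω, Module.Basis.equivFun_self]
    split_ifs
    · exact (map_one _).symm
    · exact (map_zero _).symm
  exact exists_linearEquiv_adicCompletion ω h1 h2

end

end Groth.Agent.H5.FR
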