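import Mathlib
import Groth.Prelude.Def_CAlgX

set_option autoImplicit false
universe u

open IsLocalRing MvPolynomial

namespace Groth.Agent.H5.H1Inj

section
variable {A B : Type u} [CommRing A] [CommRing B] [IsLocalRing B] [Algebra A B]

/-- **Core lemma**: under adic formal smoothness, the conormal map for the canonical presentations
of the residue field is injective. -/
theorem mem_sq_of_map_mem_sq (hfs : CAlgX.IsAdicFormallySmooth A B (maximalIdeal B))
    (φ : MvPolynomial (ResidueField B) A →+* MvPolynomial (ResidueField B) B)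
    (hφC : ∀ a, φ (C a) = C (algebraMap A B a)) (hφX : ∀ κ, φ (X κ) = X κ)
    (x : MvPolynomial (ResidueField B) A)
    (hx : x ∈ RingHom.ker (aeval (R := A) (fun κ : ResidueField B => κ)).toRingHom)
    (h : φ x ∈ RingHom.ker (aeval (R := B) (fun κ : ResidueField B => κ)).toRingHom ^ 2) :
    x ∈ RingHom.ker (aeval (R := A) (fun κ : ResidueField B => κ)).toRingHom ^ 2 := by
  classical
  let K := ResidueField B
  let P := MvPolynomial K A
  let Q := MvPolynomial K B
  let πA : P →ₐ[A] K := aeval (fun κ : K => κ)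
  let πB : Q →ₐ[B] K := aeval (fun κ : K => κ)
  have hπA : Function.Surjective πA := fun κ => ⟨X κ, aeval_X _ κ⟩
  let I : Ideal P := RingHom.ker πA.toRingHom
  let J : Ideal Q := RingHom.ker πB.toRingHom
  let E := P ⧸ I ^ 2
  let N : Ideal E := I.map (Ideal.Quotient.mk (I ^ 2))
  have hN : N ^ 2 = ⊥ := by
    rw [← Ideal.map_pow, Ideal.map_quotient_self]
  -- `K ≅ P/I → E/N`
  let e₁ : (P ⧸ I) ≃ₐ[A] K := Ideal.quotientKerAlgEquivOfSurjective hπA
  let φ₀ : P →ₐ[A] E ⧸ N := (Ideal.Quotient.mkₐ A N).comp (Ideal.Quotient.mkₐ A (I ^ 2))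
  have hφ₀ : ∀ p ∈ I, φ₀ p = 0 := by
    intro p hp
    show Ideal.Quotient.mk N (Ideal.Quotient.mk (I ^ 2) p) = 0
    rw [Ideal.Quotient.eq_zero_iff_mem]
    exact Ideal.mem_map_of_mem _ hp
  let ι : K →ₐ[A] E ⧸ N := (Ideal.Quotient.liftₐ I φ₀ hφ₀).comp e₁.symm.toAlgHom
  have hι : ∀ p : P, ι (πA p) = φ₀ p := by
    intro p
    show Ideal.Quotient.liftₐ I φ₀ hφ₀ (e₁.symm (πA p)) = φ₀ p
    have : e₁.symm (πA p) = Ideal.Quotient.mk I p := by
      rw [AlgEquiv.symm_apply_eq]
      rfl
    rw [this]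
    rfl
  -- the test map
  let ψ : B →ₐ[A] E ⧸ N := ι.comp (IsScalarTower.toAlgHom A B K)
  have hψ : ∃ n : ℕ, ∀ b ∈ maximalIdeal B ^ n, ψ b = 0 := by
    refine ⟨1, fun b hb => ?_⟩
    rw [pow_one] at hb
    show ι (algebraMap B K b) = 0
    have : algebraMap B K b = 0 := (IsLocalRing.residue_eq_zero_iff b).mpr hb
    rw [this, map_zero]
  obtain ⟨χ, hχ⟩ := hfs E N hN ψ hψ
  -- θ
  let θ : Q →+* E := eval₂Hom χ.toRingHom (fun κ => Ideal.Quotient.mk (I ^ 2) (X κ))
  have hθC : ∀ b, θ (C b) = χ b := fun b => eval₂Hom_C _ _ b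
  have hθX : ∀ κ, θ (X κ) = Ideal.Quotient.mk (I ^ 2) (X κ) := fun κ => eval₂Hom_X' _ _ κ
  have h1 : θ.comp φ = Ideal.Quotient.mk (I ^ 2) := by
    apply MvPolynomial.ringHom_ext
    · intro a
      rw [RingHom.comp_apply, hφC, hθC]
      exact χ.commutes a
    · intro κ
      rw [RingHom.comp_apply, hφX, hθX]
  have h2 : (Ideal.Quotient.mk N).comp θ = ι.toRingHom.comp πB.toRingHom := by
    apply MvPolynomial.ringHom_ext
    · intro b
      rw [RingHom.comp_apply, hθC, RingHom.comp_apply]
      have := congr($hχ b)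
      rw [AlgHom.comp_apply] at this
      show Ideal.Quotient.mk N (χ b) = ι (πB (C b))
      rw [show πB (C b) = algebraMap B K b from aeval_C _ b]
      exact this
    · intro κ
      rw [RingHom.comp_apply, hθX, RingHom.comp_apply]
      show φ₀ (X κ) = ι (πB (X κ))
      rw [show πB (X κ) = κ from aeval_X _ κ, ← hι (X κ), show πA (X κ) = κ from aeval_X _ κ]
  have h3 : ∀ q ∈ J, θ q ∈ N := by
    intro q hq
    rw [← Ideal.Quotient.eq_zero_iff_mem]
    have := congr($h2 q)
    rw [RingHom.comp_apply] at this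
    rw [this, RingHom.comp_apply]
    have hq' : πB.toRingHom q = 0 := hq
    rw [hq', map_zero]
  have h4 : ∀ q ∈ J ^ 2, θ q = 0 := by
    intro q hq
    have : θ q ∈ N ^ 2 := by
      have hle : (J ^ 2).map θ ≤ N ^ 2 := by
        rw [Ideal.map_pow]
        exact Ideal.pow_right_mono (Ideal.map_le_iff_le_comap.mpr h3) 2
      exact hle (Ideal.mem_map_of_mem _ hq)
    rw [hN] at this
    exact this
  have h5 := h4 _ h
  rw [← RingHom.comp_apply, h1] at h5
  exact Ideal.Quotient.eq_zero_iff_mem.mp h5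

open Algebra in
/-- **S9282**: injectivity of `H₁(L_{K/A}) → H₁(L_{K/B})` for `B` adically formally smooth over `A`. -/
theorem h1Cotangent_map_injective (hfs : CAlgX.IsAdicFormallySmooth A B (maximalIdeal B)) :
    Function.Injective
      (Algebra.H1Cotangent.map A B (ResidueField B) (ResidueField B)) := by
  let K := ResidueField B
  let GA := Generators.self A K
  let GB := Generators.self B K
  let f := Generators.defaultHom GA GB
  have hfC : ∀ a, f.toAlgHom (C a) = C (algebraMap A B a) := fun a => f.toAlgHom_C a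
  have hfX : ∀ κ, f.toAlgHom (X κ) = X κ := by
    intro κ
    rw [Generators.Hom.toAlgHom_X]
    rfl
  have key : Function.Injective (Extension.Cotangent.map f.toExtensionHom) := by
    rw [injective_iff_map_eq_zero]
    intro c hc
    obtain ⟨x, rfl⟩ := Extension.Cotangent.mk_surjective c
    rw [Extension.Cotangent.map_mk, Extension.Cotangent.mk_eq_zero_iff] at hc
    rw [Extension.Cotangent.mk_eq_zero_iff]
    have hx : (x.1 : MvPolynomial K A) ∈
        RingHom.ker (aeval (R := A) (fun κ : K => κ)).toRingHom := x.2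
    have hc' : f.toAlgHom.toRingHom (x.1 : MvPolynomial K A) ∈
        RingHom.ker (aeval (R := B) (fun κ : K => κ)).toRingHom ^ 2 := hc
    exact mem_sq_of_map_mem_sq hfs f.toAlgHom.toRingHom hfC hfX x.1 hx hc'
  intro ξ η h
  apply Extension.h1Cotangentι_injective
  apply key
  have h1 := congrArg (fun z => GB.toExtension.h1Cotangentι z) h
  exact h1

end

end Groth.Agent.H5.H1Inj
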