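import Mathlib

set_option autoImplicit false
universe u

namespace Groth.Agent.H5.LD

section
variable {K : Type*} [Field K]

/-- linear independence passes to a smaller subfield. -/
theorem linearIndependent_of_le {L L' : Subfield K} (h : L ≤ L') {ι : Type*} (v : ι → K)
    (hv : LinearIndependent L' v) : LinearIndependent L v := by
  have := hv.map_of_injective_injective (R' := L) (M' := K) (Subfield.inclusion h)
    (AddMonoidHom.id K) (fun r hr => by
      have : ((Subfield.inclusion h r : L') : K) = 0 := by rw [hr]; rfl
      exact Subtype.ext this) (fun m hm => hm) (fun r m => rfl)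
  exact this

variable {ι : Type*} [Preorder ι] [IsDirected ι (· ≤ ·)] [Nonempty ι]

/-- **Descent of linear independence** along a decreasing directed family of subfields: a finite
family linearly independent over the intersection is linearly independent over some member. -/
theorem exists_linearIndependent_of_iInf (L : ι → Subfield K) (hL : Antitone L) :
    ∀ {m : ℕ} (v : Fin m → K), LinearIndependent (↥(⨅ i, L i)) v →
      ∃ i, LinearIndependent (L i) v := by
  intro m
  induction m with
  | zero =>
    intro v _
    exact ⟨Classical.arbitrary ι, linearIndependent_empty_type⟩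
  | succ m ih =>
    intro v hv
    rw [linearIndependent_finSucc] at hv
    obtain ⟨hv1, hv2⟩ := hv
    obtain ⟨i₁, hi₁⟩ := ih (Fin.tail v) hv1
    by_contra hcon
    push_neg at hcon
    -- for all `i ≥ i₁`, `v 0` lies in the `L i`-span of the tail
    have hspan : ∀ i, i₁ ≤ i → ∃ c : Fin m → K, (∀ j, c j ∈ L i) ∧
        ∑ j, c j * Fin.tail v j = v 0 := by
      intro i hi
      have hli : LinearIndependent (L i) (Fin.tail v) := linearIndependent_of_le (hL hi) _ hi₁
      have hn := hcon i
      rw [linearIndependent_finSucc, not_and_or] at hn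
      rcases hn with hn | hn
      · exact absurd hli hn
      · rw [not_not, Submodule.mem_span_range_iff_exists_fun] at hn
        obtain ⟨c, hc⟩ := hn
        exact ⟨fun j => (c j : K), fun j => (c j).2, hc⟩
    obtain ⟨c₁, hc₁, hc₁'⟩ := hspan i₁ le_rfl
    -- the coefficients are unique, hence lie in every `L i`
    have hmem : ∀ i j, c₁ j ∈ L i := by
      intro i j
      obtain ⟨i', h1, h2⟩ := exists_ge_ge i₁ i
      obtain ⟨c, hc, hc'⟩ := hspan i' h1
      have hdiff : ∑ j, (⟨c₁ j - c j, sub_mem (hc₁ j) (hL h1 (hc j))⟩ : L i₁) • Fin.tail v j = 0 := by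
        have : ∀ j, (⟨c₁ j - c j, sub_mem (hc₁ j) (hL h1 (hc j))⟩ : L i₁) • Fin.tail v j =
            c₁ j * Fin.tail v j - c j * Fin.tail v j := fun j => by
          rw [← sub_mul]; rfl
        rw [Finset.sum_congr rfl fun j _ => this j, Finset.sum_sub_distrib, hc₁', hc', sub_self]
      have h3 := Fintype.linearIndependent_iff.mp hi₁ _ hdiff j
      have h4 : c₁ j - c j = 0 := congrArg Subtype.val h3
      rw [sub_eq_zero] at h4
      rw [h4]
      exact hL h2 (hc j)
    apply hv2
    rw [Submodule.mem_span_range_iff_exists_fun]
    refine ⟨fun j => ⟨c₁ j, ?_⟩, hc₁'⟩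
    rw [Subfield.mem_iInf]
    exact fun i => hmem i j

end

end Groth.Agent.H5.LD
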