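import Mathlib
import Groth.Prelude.Def_EGA41
import Groth.Agent.Lib.Helper5.PB.PB16
import Groth.Agent.Lib.Helper5.Car.LD1

set_option autoImplicit false
universe u

open EGA41

namespace Groth.Agent.H5.PK

open H5.PB

section transfer
variable {K : Type*} [Field K] {A : Type*} [CommRing A] [Algebra A K]

theorem li_subfield_of_subalgebra (S : Subalgebra A K) (L : Subfield K) (h : ∀ y ∈ L, y ∈ S)
    {ι : Type*} (v : ι → K) (hv : LinearIndependent S v) : LinearIndependent L v := by
  have := hv.map_of_injective_injective (R' := L) (M' := K) (fun r => (⟨r.1, h r.1 r.2⟩ : S))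
    (AddMonoidHom.id K) (fun r hr => by
      have : (r : K) = 0 := congrArg Subtype.val hr
      exact Subtype.ext this) (fun m hm => hm) (fun r m => rfl)
  exact this

theorem li_subalgebra_of_subfield (S : Subalgebra A K) (L : Subfield K) (h : ∀ y ∈ S, y ∈ L)
    {ι : Type*} (v : ι → K) (hv : LinearIndependent L v) : LinearIndependent S v := by
  have := hv.map_of_injective_injective (R' := S) (M' := K) (fun r => (⟨r.1, h r.1 r.2⟩ : L))
    (AddMonoidHom.id K) (fun r hr => by
      have : (r : K) = 0 := congrArg Subtype.val hr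
      exact Subtype.ext this) (fun m hm => hm) (fun r m => rfl)
  exact this

end transfer

section
variable (p : ℕ) [hpp : Fact p.Prime] {k₀ K : Type u} [Field k₀] [Field K] [Algebra k₀ K] [CharP K p]

/-- `k₀(K^p)`. -/
noncomputable abbrev PP : IntermediateField k₀ K :=
  IntermediateField.adjoin k₀ (Set.range fun y : K => y ^ p)

variable (k₀ K) in
theorem mem_PP_iff (y : K) : y ∈ PP p (k₀ := k₀) (K := K) ↔ y ∈ pPowerSubalgebra p k₀ K := by
  have h := mem_intermediateField_adjoin_iff p (k := k₀) (K := K) (∅ : Set K) y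
  rw [Set.union_empty, Algebra.adjoin_empty] at h
  rw [h]
  constructor
  · intro hy
    obtain ⟨c, hc⟩ := Algebra.mem_bot.mp hy
    rw [← hc]
    exact c.2
  · intro hy
    exact Algebra.mem_bot.mpr ⟨⟨y, hy⟩, rfl⟩

/-- `k(K^p)` as a set, for an intermediate field `k`. -/
theorem mem_sup_PP_iff (k : IntermediateField k₀ K) (y : K) :
    y ∈ k ⊔ PP p (k₀ := k₀) (K := K) ↔ y ∈ pPowerSubalgebra p k K := by
  constructor
  · intro hy
    have hpow : ∀ z : K, z ^ p ∈ (pPowerSubalgebra p k K).toSubring := fun z =>
      Algebra.subset_adjoin ⟨z, rfl⟩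
    let X : IntermediateField k₀ K :=
      Subalgebra.toIntermediateField ((pPowerSubalgebra p k K).restrictScalars k₀) (fun z hz =>
        (subfieldOfPow p (pPowerSubalgebra p k K).toSubring hpow).inv_mem hz)
    have h1 : k ≤ X := fun z hz => (pPowerSubalgebra p k K).algebraMap_mem (⟨z, hz⟩ : k)
    have h2 : PP p (k₀ := k₀) (K := K) ≤ X := by
      rw [IntermediateField.adjoin_le_iff]
      rintro _ ⟨z, rfl⟩
      exact hpow z
    exact (sup_le h1 h2) hy
  · intro hy
    induction hy using Algebra.adjoin_induction with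
    | mem z hz =>
      have : z ∈ PP p (k₀ := k₀) (K := K) := IntermediateField.subset_adjoin _ _ hz
      exact (le_sup_right : PP p (k₀ := k₀) (K := K) ≤ k ⊔ PP p) this
    | algebraMap c => exact (le_sup_left : k ≤ k ⊔ PP p (k₀ := k₀) (K := K)) c.2
    | add z w _ _ hz hw => exact add_mem hz hw
    | mul z w _ _ hz hw => exact mul_mem hz hw

end

end Groth.Agent.H5.PK
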