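import Mathlib
import Groth.Prelude.Def_EGA41
import Groth.Agent.Lib.Helper5.Car.PK1

set_option autoImplicit false
universe u

open EGA41

namespace Groth.Agent.H5.PK

open H5.PB Groth.Agent.H5.LD

section
variable (p : ℕ) [hpp : Fact p.Prime] {k₀ K : Type u} [Field k₀] [Field K] [Algebra k₀ K] [CharP K p]
  {ι : Type u} [Preorder ι] [IsDirected ι (· ≤ ·)] [Nonempty ι]

/-- descent of `p`-independence of a finite family along a decreasing directed family of subfields
with `⋂ k_α(K^p) = k₀(K^p)`. -/
theorem exists_isPIndependent (k : ι → IntermediateField k₀ K) (hk : Antitone k)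
    (h : (⨅ i, k i ⊔ PP p (k₀ := k₀) (K := K)) = PP p) {n : ℕ} (x : Fin n → K)
    (hx : IsPIndependent p k₀ (fun j : ULift.{u} (Fin n) => x j.down)) :
    ∃ i, IsPIndependent p (k i) (fun j : ULift.{u} (Fin n) => x j.down) := by
  classical
  let E := {e : ULift.{u} (Fin n) →₀ ℕ // ∀ i, e i < p}
  haveI : Finite E := by
    have : Function.Injective (fun e : E => fun i : ULift.{u} (Fin n) => (⟨e.1 i, e.2 i⟩ : Fin p)) := by
      intro e e' hee'
      apply Subtype.ext
      ext i
      have := congrFun hee' i
      exact congrArg Fin.val this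
    exact Finite.of_injective _ this
  obtain ⟨N, ⟨eqv⟩⟩ := Finite.exists_equiv_fin E
  let mon : E → K := fun e => pMonomial (fun j : ULift.{u} (Fin n) => x j.down) e.1
  let v : Fin N → K := mon ∘ eqv.symm
  let L : ι → Subfield K := fun i => (k i ⊔ PP p (k₀ := k₀) (K := K)).toSubfield
  have hL : Antitone L := by
    intro i j hij y hy
    exact (sup_le_sup_right (hk hij) _ : k j ⊔ PP p (k₀ := k₀) (K := K) ≤ k i ⊔ PP p) hy
  have hinf : (⨅ i, L i) = (PP p (k₀ := k₀) (K := K)).toSubfield := by
    rw [← IntermediateField.iInf_toSubfield, h]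
  have hx' : LinearIndependent (pPowerSubalgebra p k₀ K) mon := hx
  have h1 : LinearIndependent (pPowerSubalgebra p k₀ K) v :=
    hx'.comp _ eqv.symm.injective
  have h2 : LinearIndependent (↥(⨅ i, L i)) v := by
    refine li_subfield_of_subalgebra (pPowerSubalgebra p k₀ K) _ ?_ v h1
    intro y hy
    rw [hinf] at hy
    exact (mem_PP_iff p k₀ K y).mp hy
  obtain ⟨i, hi⟩ := exists_linearIndependent_of_iInf L hL v h2
  refine ⟨i, ?_⟩
  have h3 : LinearIndependent (pPowerSubalgebra p (k i) K) v := by
    refine li_subalgebra_of_subfield (pPowerSubalgebra p (k i) K) (L i) ?_ v hi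
    intro y hy
    exact (mem_sup_PP_iff p (k i) y).mpr hy
  have h4 : LinearIndependent (pPowerSubalgebra p (k i) K) (v ∘ eqv) := h3.comp _ eqv.injective
  have h5 : v ∘ eqv = mon := by
    funext e
    show mon (eqv.symm (eqv e)) = mon e
    rw [Equiv.symm_apply_apply]
  rw [h5] at h4
  exact h4

theorem main2475 (k : ι → IntermediateField k₀ K) (hk : Antitone k) :
    (⨅ i, k i ⊔ IntermediateField.adjoin k₀ (Set.range fun y : K => y ^ p)) =
        IntermediateField.adjoin k₀ (Set.range fun y : K => y ^ p) ↔
      ∀ ω : Ω[K⁄k₀], (∀ i, KaehlerDifferential.map k₀ (k i) K K ω = 0) → ω = 0 := by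
  classical
  constructor
  · intro h ω hω
    obtain ⟨B, hB⟩ := exists_pBasis p (k := k₀) (K := K)
    have hLI := linearIndependent_D p (Subtype.val : B → K) hB
    have hsp := Groth.Agent.H2.PGen.span_D_eq_top_of_isPGenerating p (Subtype.val : B → K) hB.2
    have hω' : ω ∈ Submodule.span K (Set.range fun b : B => KaehlerDifferential.D k₀ K (b : K)) := by
      rw [hsp]; trivial
    obtain ⟨c, hc⟩ := (Finsupp.mem_span_range_iff_exists_finsupp).mp hω'
    let F : Finset B := c.support
    let n := F.card
    let e : Fin n ≃ F := F.equivFin.symm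
    let x : Fin n → K := fun j => ((e j : F) : B)
    -- the finite subfamily is p-independent over k₀
    have hxLI : LinearIndependent K (fun j : ULift.{u} (Fin n) => KaehlerDifferential.D k₀ K (x j.down)) := by
      have : (fun j : ULift.{u} (Fin n) => KaehlerDifferential.D k₀ K (x j.down)) =
          (fun b : B => KaehlerDifferential.D k₀ K (b : K)) ∘ (fun j : ULift.{u} (Fin n) => ((e j.down : F) : B)) := rfl
      rw [this]
      refine hLI.comp _ ?_
      intro j j' hjj'
      have : e j.down = e j'.down := Subtype.ext hjj'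
      exact ULift.ext _ _ (e.injective this)
    have hx : IsPIndependent p k₀ (fun j : ULift.{u} (Fin n) => x j.down) :=
      isPIndependent_of_linearIndependent_D p _ hxLI
    obtain ⟨i, hi⟩ := exists_isPIndependent p k hk h x hx
    have hLIi := linearIndependent_D_of_isPIndependent p _ hi
    -- ω = Σ_j c (e j) • D (x j)
    have hsum : ω = ∑ j : Fin n, c (e j : B) • KaehlerDifferential.D k₀ K (x j) := by
      rw [← hc, Finsupp.sum]
      rw [← Finset.sum_coe_sort F]
      exact (Equiv.sum_comp e (fun b : F => c (b : B) • KaehlerDifferential.D k₀ K ((b : B) : K))).symm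
    have h0 := hω i
    rw [hsum, map_sum] at h0
    have h1 : ∑ j : ULift.{u} (Fin n), c (e j.down : B) • KaehlerDifferential.D (k i) K (x j.down) = 0 := by
      rw [← h0]
      rw [← Equiv.sum_comp Equiv.ulift.symm]
      refine Finset.sum_congr rfl fun j _ => ?_
      rw [map_smul, KaehlerDifferential.map_D]
      rfl
    have h2 := Fintype.linearIndependent_iff.mp hLIi _ h1
    rw [hsum]
    refine Finset.sum_eq_zero fun j _ => ?_
    have := h2 ⟨j⟩
    rw [this, zero_smul]
  · intro hinj
    apply le_antisymm
    · intro a ha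
      have ha' : a ∈ ((⨅ i, k i ⊔ IntermediateField.adjoin k₀ (Set.range fun y : K => y ^ p) :
          IntermediateField k₀ K) : Set K) := ha
      rw [IntermediateField.coe_iInf, Set.mem_iInter] at ha'
      have h1 : ∀ i, KaehlerDifferential.map k₀ (k i) K K (KaehlerDifferential.D k₀ K a) = 0 := by
        intro i
        rw [KaehlerDifferential.map_D]
        show KaehlerDifferential.D (k i) K a = 0
        rw [D_eq_zero_iff_mem p a]
        exact (mem_sup_PP_iff p (k i) a).mp (ha' i)
      have h2 := hinj _ h1
      rw [D_eq_zero_iff_mem p a] at h2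
      exact (mem_PP_iff p k₀ K a).mpr h2
    · exact le_iInf fun i => le_sup_right

end

end Groth.Agent.H5.PK
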