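import Mathlib
import Groth.Prelude.Def_EGA41
import Groth.Agent.Lib.Helper5.Car.PK1

set_option autoImplicit false
universe u

open EGA41 TensorProduct

namespace Groth.Agent.H5.PK

open H5.PB

section
variable (p : ℕ) [hpp : Fact p.Prime] {k₀ K : Type u} [Field k₀] [Field K] [Algebra k₀ K] [CharP K p]
  (B : Set K) (hB : IsPBasis p k₀ (Subtype.val : B → K)) (F : Finset B)

variable (k₀) in
/-- the subfield `k₀(K^p, B ∖ F)`. -/
noncomputable def kF : IntermediateField k₀ K :=
  IntermediateField.adjoin k₀ ((Set.range fun y : K => y ^ p) ∪ Subtype.val '' ((F : Set B)ᶜ))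

theorem pow_mem_kF (y : K) : y ^ p ∈ kF p k₀ B F :=
  IntermediateField.subset_adjoin _ _ (Or.inl ⟨y, rfl⟩)

theorem mem_kF_of_notMem (b : B) (hb : b ∉ F) : (b : K) ∈ kF p k₀ B F :=
  IntermediateField.subset_adjoin _ _ (Or.inr ⟨b, hb, rfl⟩)

include hB in
theorem adjoin_kF_eq_top :
    IntermediateField.adjoin (kF p k₀ B F) (Subtype.val '' (F : Set B)) = ⊤ := by
  classical
  rw [eq_top_iff]
  intro y hy0
  clear hy0
  have hy : y ∈ Submodule.span (pPowerSubalgebra p k₀ K)
      (Set.range fun e : {e : B →₀ ℕ // ∀ i, e i < p} => pMonomial (Subtype.val : B → K) e.1) := by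
    rw [hB.2]; trivial
  have hbmem : ∀ b : B, (b : K) ∈
      IntermediateField.adjoin (kF p k₀ B F) (Subtype.val '' (F : Set B)) := by
    intro b
    by_cases hb : b ∈ F
    · exact IntermediateField.subset_adjoin _ _ ⟨b, hb, rfl⟩
    · exact (IntermediateField.adjoin (kF p k₀ B F) (Subtype.val '' (F : Set B))).algebraMap_mem
        (⟨(b : K), mem_kF_of_notMem p B F b hb⟩ : kF p k₀ B F)
  induction hy using Submodule.span_induction with
  | mem z hz =>
    obtain ⟨e, rfl⟩ := hz
    show pMonomial (Subtype.val : B → K) e.1 ∈ _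
    unfold pMonomial
    exact prod_mem fun b _ => pow_mem (hbmem b) _
  | zero => exact zero_mem _
  | add z w _ _ hz hw => exact add_mem hz hw
  | smul c z _ hz =>
    have hc : (c : K) ∈ kF p k₀ B F := by
      have h1 : (c : K) ∈ pPowerSubalgebra p k₀ K := c.2
      have h2 : pPowerSubalgebra p k₀ K ≤ (kF p k₀ B F).toSubalgebra := by
        apply Algebra.adjoin_le
        rintro _ ⟨w, rfl⟩
        exact pow_mem_kF p B F w
      exact h2 h1
    have hc' : (c : K) ∈ IntermediateField.adjoin (kF p k₀ B F) (Subtype.val '' (F : Set B)) :=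
      (IntermediateField.adjoin (kF p k₀ B F) (Subtype.val '' (F : Set B))).algebraMap_mem
        (⟨(c : K), hc⟩ : kF p k₀ B F)
    exact mul_mem hc' hz

include hB in
theorem finite_kF : Module.Finite (kF p k₀ B F) K := by
  have hfin : (Subtype.val '' (F : Set B)).Finite := (Finset.finite_toSet F).image _
  haveI : Finite (Subtype.val '' (F : Set B)) := hfin.to_subtype
  have hint : ∀ z ∈ Subtype.val '' (F : Set B), IsIntegral (kF p k₀ B F) z := by
    intro z _
    refine ⟨Polynomial.X ^ p - Polynomial.C (⟨z ^ p, pow_mem_kF p B F z⟩ : kF p k₀ B F),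
      Polynomial.monic_X_pow_sub_C _ hpp.out.ne_zero, ?_⟩
    rw [Polynomial.eval₂_sub, Polynomial.eval₂_pow, Polynomial.eval₂_X, Polynomial.eval₂_C]
    exact sub_self _
  haveI := IntermediateField.finiteDimensional_adjoin hint
  rw [adjoin_kF_eq_top p B hB F] at this
  exact Module.Finite.equiv (IntermediateField.topEquiv (F := kF p k₀ B F) (E := K)).toLinearEquiv

include hB in
/-- the elements of `F` are `p`-independent over `k₀(K^p, B ∖ F)`. -/
theorem isPIndependent_kF : IsPIndependent p (kF p k₀ B F) (fun b : F => ((b : B) : K)) := by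
  classical
  rw [main4521]
  intro a ha
  have h0 := (main4521 p (k := k₀) (K := K) (Subtype.val : B → K)).mp hB.1 (a : B)
  apply h0
  have h1 : (IntermediateField.adjoin (kF p k₀ B F)
      ((Set.range fun y : K => y ^ p) ∪ (fun b : F => ((b : B) : K)) '' {b | b ≠ a})).restrictScalars k₀ =
      IntermediateField.adjoin k₀ (((Set.range fun y : K => y ^ p) ∪ Subtype.val '' ((F : Set B)ᶜ)) ∪
        ((Set.range fun y : K => y ^ p) ∪ (fun b : F => ((b : B) : K)) '' {b | b ≠ a})) :=
    IntermediateField.adjoin_adjoin_left k₀ _ _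
  have h2 : ((a : B) : K) ∈ (IntermediateField.adjoin (kF p k₀ B F)
      ((Set.range fun y : K => y ^ p) ∪ (fun b : F => ((b : B) : K)) '' {b | b ≠ a})).restrictScalars k₀ := ha
  rw [h1] at h2
  refine IntermediateField.adjoin.mono k₀ _ _ ?_ h2
  rintro z ((hz | ⟨b, hb, rfl⟩) | (hz | ⟨b, hb, rfl⟩))
  · exact Or.inl hz
  · refine Or.inr ⟨b, ?_, rfl⟩
    intro hba
    apply hb
    rw [hba]
    exact a.2
  · exact Or.inl hz
  · refine Or.inr ⟨(b : B), ?_, rfl⟩
    intro hba
    exact hb (Subtype.ext hba)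

end

end Groth.Agent.H5.PK
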