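import Mathlib
import Groth.Prelude.Def_EGA41
import Groth.Agent.Lib.Helper5.Car.PK3

set_option autoImplicit false
universe u

open EGA41 TensorProduct

namespace Groth.Agent.H5.PK

open H5.PB

section
variable (p : ℕ) [hpp : Fact p.Prime] {k₀ K L : Type u} [Field k₀] [Field K] [Field L]
  [Algebra k₀ K] [Algebra K L] [CharP K p]
  (B : Set K) (hB : IsPBasis p k₀ (Subtype.val : B → K)) (F : Finset B)

include hB in
/-- the projection `L ⊗ Ω_{K/k₀} → L ⊗ Ω_{K/k}` for `k = k₀(K^p, B ∖ F)` is injective on the span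
of the `1 ⊗ db`, `b ∈ F`. -/
theorem baseChange_map_injOn_span (ω : L ⊗[K] Ω[K⁄k₀])
    (hω : ω ∈ Submodule.span L (Set.range fun b : F =>
      (1 : L) ⊗ₜ[K] KaehlerDifferential.D k₀ K ((b : B) : K)))
    (h0 : ((KaehlerDifferential.map k₀ (kF p k₀ B F) K K).restrictScalars K).baseChange L ω = 0) :
    ω = 0 := by
  classical
  obtain ⟨c, rfl⟩ := (Submodule.mem_span_range_iff_exists_fun L).mp hω
  have hLI : LinearIndependent K
      (fun b : F => KaehlerDifferential.D (kF p k₀ B F) K ((b : B) : K)) :=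
    linearIndependent_D_of_isPIndependent p _ (isPIndependent_kF p B hB F)
  have hLI' : LinearIndependent L
      (fun b : F => (1 : L) ⊗ₜ[K] KaehlerDifferential.D (kF p k₀ B F) K ((b : B) : K)) :=
    Module.Flat.linearIndependent_one_tmul hLI
  rw [map_sum] at h0
  have h1 : ∑ b : F, c b • ((1 : L) ⊗ₜ[K] KaehlerDifferential.D (kF p k₀ B F) K ((b : B) : K)) = 0 := by
    rw [← h0]
    refine Finset.sum_congr rfl fun b _ => ?_
    rw [map_smul, LinearMap.baseChange_tmul]
    congr 2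
    exact (KaehlerDifferential.map_D k₀ (kF p k₀ B F) K K _).symm
  have h2 := Fintype.linearIndependent_iff.mp hLI' c h1
  refine Finset.sum_eq_zero fun b _ => ?_
  rw [h2 b, zero_smul]

end

section
variable (p : ℕ) [hpp : Fact p.Prime] {k₀ K L : Type u} [Field k₀] [Field K] [Field L]
  [Algebra k₀ K] [Algebra K L] [Algebra k₀ L] [IsScalarTower k₀ K L] [CharP K p]

theorem main4549 [Module.Finite L (EGA41.imperfection k₀ K L)] :
    ∃ k : IntermediateField k₀ K, (∀ y : K, y ^ p ∈ k) ∧ Module.Finite k K ∧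
      ∀ ω ∈ EGA41.imperfection k₀ K L,
        ((KaehlerDifferential.map k₀ k K K).restrictScalars K).baseChange L ω = 0 → ω = 0 := by
  classical
  obtain ⟨B, hB⟩ := exists_pBasis p (k := k₀) (K := K)
  obtain ⟨bΩ, hbΩ⟩ := main2466 p (Subtype.val : B → K) hB
  let bL : Module.Basis B L (L ⊗[K] Ω[K⁄k₀]) := bΩ.baseChange L
  have hbL : ∀ b : B, bL b = (1 : L) ⊗ₜ[K] KaehlerDifferential.D k₀ K (b : K) := by
    intro b
    rw [Module.Basis.baseChange_apply, hbΩ]
  have hfg : (EGA41.imperfection k₀ K L).FG := Module.Finite.iff_fg.mp inferInstance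
  obtain ⟨S, hS⟩ := hfg
  let F : Finset B := S.biUnion fun s => (bL.repr s).support
  have hsub : EGA41.imperfection k₀ K L ≤ Submodule.span L (Set.range fun b : F =>
      (1 : L) ⊗ₜ[K] KaehlerDifferential.D k₀ K ((b : B) : K)) := by
    rw [← hS, Submodule.span_le]
    intro s hs
    have h1 := bL.mem_span_repr_support s
    refine Submodule.span_mono ?_ h1
    rintro _ ⟨b, hb, rfl⟩
    have hbF : b ∈ F := Finset.mem_biUnion.mpr ⟨s, hs, hb⟩
    exact ⟨⟨b, hbF⟩, (hbL b).symm⟩
  refine ⟨kF p k₀ B F, pow_mem_kF p B F, finite_kF p B hB F, fun ω hω h0 => ?_⟩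
  exact baseChange_map_injOn_span p B hB F ω (hsub hω) h0

end

end Groth.Agent.H5.PK
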