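import Mathlib
import Groth.Prelude.Def_EGA41
import Groth.Agent.Lib.Helper5.Car.PK2
import Groth.Agent.Lib.Helper5.Car.PK4
import Groth.Agent.Lib.Helper5.Car.Car3

set_option autoImplicit false
universe u

open EGA41 TensorProduct

namespace Groth.Agent.H5.PK

open H5.PB Groth.Agent.H5.LD

section
variable (p : ℕ) [hpp : Fact p.Prime] {k₀ K : Type u} [Field k₀] [Field K] [Algebra k₀ K] [CharP K p]
  {ι : Type u} [Preorder ι] [IsDirected ι (· ≤ ·)] [Nonempty ι]

/-- descent of `p`-independence of a finite family (general finite index type). -/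
theorem exists_isPIndependent' (k : ι → IntermediateField k₀ K) (hk : Antitone k)
    (h : (⨅ i, k i ⊔ PP p (k₀ := k₀) (K := K)) = PP p) {J : Type u} [Finite J] (x : J → K)
    (hx : IsPIndependent p k₀ x) :
    ∃ i, IsPIndependent p (k i) x := by
  classical
  let E := {e : J →₀ ℕ // ∀ i, e i < p}
  haveI : Finite E := by
    have : Function.Injective (fun e : E => fun i : J => (⟨e.1 i, e.2 i⟩ : Fin p)) := by
      intro e e' hee'
      apply Subtype.ext
      ext i
      have := congrFun hee' i
      exact congrArg Fin.val this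
    exact Finite.of_injective _ this
  obtain ⟨N, ⟨eqv⟩⟩ := Finite.exists_equiv_fin E
  let mon : E → K := fun e => pMonomial x e.1
  let v : Fin N → K := mon ∘ eqv.symm
  let L : ι → Subfield K := fun i => (k i ⊔ PP p (k₀ := k₀) (K := K)).toSubfield
  have hL : Antitone L := by
    intro i j hij y hy
    exact (sup_le_sup_right (hk hij) _ : k j ⊔ PP p (k₀ := k₀) (K := K) ≤ k i ⊔ PP p) hy
  have hinf : (⨅ i, L i) = (PP p (k₀ := k₀) (K := K)).toSubfield := by
    rw [← IntermediateField.iInf_toSubfield, h]
  have hx' : LinearIndependent (pPowerSubalgebra p k₀ K) mon := hx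
  have h1 : LinearIndependent (pPowerSubalgebra p k₀ K) v :=
    hx'.comp _ eqv.symm.injective
  have h2 : LinearIndependent (↥(⨅ i, L i)) v := by
    refine li_subfield_of_subalgebra (pPowerSubalgebra p k₀ K) _ ?_ v h1
    intro y hy
    rw [hinf] at hy
    exact (mem_PP_iff p k₀ K y).mp hy
  obtain ⟨i, hi⟩ := exists_linearIndependent_of_iInf L hL v h2
  refine ⟨i, ?_⟩
  have h3 : LinearIndependent (pPowerSubalgebra p (k i) K) v := by
    refine li_subalgebra_of_subfield (pPowerSubalgebra p (k i) K) (L i) ?_ v hi
    intro y hy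
    exact (mem_sup_PP_iff p (k i) y).mpr hy
  have h4 : LinearIndependent (pPowerSubalgebra p (k i) K) (v ∘ eqv) := h3.comp _ eqv.injective
  have h5 : v ∘ eqv = mon := by
    funext e
    show mon (eqv.symm (eqv e)) = mon e
    rw [Equiv.symm_apply_apply]
  rw [h5] at h4
  exact h4

end

section
variable (p : ℕ) [hpp : Fact p.Prime] {k₀ K L : Type u} [Field k₀] [Field K] [Field L]
  [Algebra k₀ K] [Algebra K L] [CharP K p]

/-- injectivity of `L ⊗ Ω_{K/k₀} → L ⊗ Ω_{K/k}` on the span of the `1 ⊗ dx_j` for a finite family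
`p`-independent over `k`. -/
theorem baseChange_map_injOn_span' (k : IntermediateField k₀ K) {J : Type u} [Fintype J] (x : J → K)
    (hx : IsPIndependent p k x) (ω : L ⊗[K] Ω[K⁄k₀])
    (hω : ω ∈ Submodule.span L (Set.range fun j : J =>
      (1 : L) ⊗ₜ[K] KaehlerDifferential.D k₀ K (x j)))
    (h0 : ((KaehlerDifferential.map k₀ k K K).restrictScalars K).baseChange L ω = 0) :
    ω = 0 := by
  classical
  obtain ⟨c, rfl⟩ := (Submodule.mem_span_range_iff_exists_fun L).mp hω
  have hLI : LinearIndependent K (fun j : J => KaehlerDifferential.D k K (x j)) :=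
    linearIndependent_D_of_isPIndependent p _ hx
  have hLI' : LinearIndependent L (fun j : J => (1 : L) ⊗ₜ[K] KaehlerDifferential.D k K (x j)) :=
    Module.Flat.linearIndependent_one_tmul hLI
  rw [map_sum] at h0
  have h1 : ∑ j : J, c j • ((1 : L) ⊗ₜ[K] KaehlerDifferential.D k K (x j)) = 0 := by
    rw [← h0]
    refine Finset.sum_congr rfl fun j _ => ?_
    rw [map_smul, LinearMap.baseChange_tmul]
    congr 2
    exact (KaehlerDifferential.map_D k₀ k K K _).symm
  have h2 := Fintype.linearIndependent_iff.mp hLI' c h1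
  refine Finset.sum_eq_zero fun j _ => ?_
  rw [h2 j, zero_smul]

end

section
variable {k₀ K L : Type u} [Field k₀] [Field K] [Field L]
  [Algebra k₀ K] [Algebra K L] [Algebra k₀ L] [IsScalarTower k₀ K L]

/-- the imperfection module of a finitely generated field extension has finite rank. -/
theorem finite_imperfection_of_essFiniteType [Algebra.EssFiniteType K L] :
    Module.Finite L (EGA41.imperfection k₀ K L) := by
  obtain ⟨-, h2, -⟩ := Groth.Agent.H5.Car.cartier_H1 (K := K) (L := L)
  haveI := h2
  have hex := Algebra.H1Cotangent.exact_δ_mapBaseChange k₀ K L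
  have : EGA41.imperfection k₀ K L = LinearMap.range (Algebra.H1Cotangent.δ k₀ K L) :=
    LinearMap.exact_iff.mp hex
  rw [this]
  exact Module.Finite.range _

end

section
variable (p : ℕ) [hpp : Fact p.Prime] {k₀ K : Type u} [Field k₀] [Field K] [Algebra k₀ K] [CharP K p]
  {ι : Type u} [Preorder ι] [IsDirected ι (· ≤ ·)] [Nonempty ι]

theorem main4545 (k : ι → IntermediateField k₀ K) (hk : Antitone k) :
    (⨅ i, k i ⊔ IntermediateField.adjoin k₀ (Set.range fun y : K => y ^ p)) =
        IntermediateField.adjoin k₀ (Set.range fun y : K => y ^ p) ↔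
      ∀ (L : Type u) [Field L] [Algebra K L] [Algebra k₀ L] [IsScalarTower k₀ K L],
        Module.Finite L (EGA41.imperfection k₀ K L) →
          ∃ i, ∀ ω ∈ EGA41.imperfection k₀ K L,
            ((KaehlerDifferential.map k₀ (k i) K K).restrictScalars K).baseChange L ω = 0 → ω = 0 := by
  classical
  constructor
  · intro h L _ _ _ _ hfin
    obtain ⟨B, hB⟩ := exists_pBasis p (k := k₀) (K := K)
    obtain ⟨bΩ, hbΩ⟩ := main2466 p (Subtype.val : B → K) hB
    have hLI := linearIndependent_D p (Subtype.val : B → K) hB
    let bL : Module.Basis B L (L ⊗[K] Ω[K⁄k₀]) := bΩ.baseChange L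
    have hbL : ∀ b : B, bL b = (1 : L) ⊗ₜ[K] KaehlerDifferential.D k₀ K (b : K) := by
      intro b
      rw [Module.Basis.baseChange_apply, hbΩ]
    have hfg : (EGA41.imperfection k₀ K L).FG := Module.Finite.iff_fg.mp hfin
    obtain ⟨S, hS⟩ := hfg
    let F : Finset B := S.biUnion fun s => (bL.repr s).support
    have hsub : EGA41.imperfection k₀ K L ≤ Submodule.span L (Set.range fun b : F =>
        (1 : L) ⊗ₜ[K] KaehlerDifferential.D k₀ K ((b : B) : K)) := by
      rw [← hS, Submodule.span_le]
      intro s hs
      have h1 := bL.mem_span_repr_support s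
      refine Submodule.span_mono ?_ h1
      rintro _ ⟨b, hb, rfl⟩
      have hbF : b ∈ F := Finset.mem_biUnion.mpr ⟨s, hs, hb⟩
      exact ⟨⟨b, hbF⟩, (hbL b).symm⟩
    have hxF : IsPIndependent p k₀ (fun b : F => ((b : B) : K)) := by
      apply isPIndependent_of_linearIndependent_D
      exact hLI.comp (fun b : F => (b : B)) Subtype.val_injective
    obtain ⟨i, hi⟩ := exists_isPIndependent' p k hk h (fun b : F => ((b : B) : K)) hxF
    refine ⟨i, fun ω hω h0 => ?_⟩
    exact baseChange_map_injOn_span' p (k i) (fun b : F => ((b : B) : K)) hi ω (hsub hω) h0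
  · intro hb
    apply le_antisymm
    · intro a ha
      by_contra hna
      have ha' : a ∈ ((⨅ i, k i ⊔ IntermediateField.adjoin k₀ (Set.range fun y : K => y ^ p) :
          IntermediateField k₀ K) : Set K) := ha
      rw [IntermediateField.coe_iInf, Set.mem_iInter] at ha'
      have hpow : ∀ b : K, b ^ p ≠ a := by
        intro b hb'
        apply hna
        rw [← hb']
        exact IntermediateField.subset_adjoin _ _ ⟨b, rfl⟩
      have hirr : Irreducible (Polynomial.X ^ p - Polynomial.C a) :=
        X_pow_sub_C_irreducible_of_prime hpp.out hpow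
      haveI : Fact (Irreducible (Polynomial.X ^ p - Polynomial.C a)) := ⟨hirr⟩
      let L := AdjoinRoot (Polynomial.X ^ p - Polynomial.C a)
      haveI : CharP L p := charP_of_injective_algebraMap (algebraMap K L).injective p
      haveI : Module.Finite L (EGA41.imperfection k₀ K L) := finite_imperfection_of_essFiniteType
      obtain ⟨i, hi⟩ := hb L inferInstance
      let β : L := AdjoinRoot.root (Polynomial.X ^ p - Polynomial.C a)
      have hβ : β ^ p = algebraMap K L a := by
        have := AdjoinRoot.eval₂_root (Polynomial.X ^ p - Polynomial.C a)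
        rw [Polynomial.eval₂_sub, Polynomial.eval₂_pow, Polynomial.eval₂_X, Polynomial.eval₂_C,
          sub_eq_zero] at this
        exact this
      let ω : L ⊗[K] Ω[K⁄k₀] := (1 : L) ⊗ₜ[K] KaehlerDifferential.D k₀ K a
      have hω : ω ∈ EGA41.imperfection k₀ K L := by
        show KaehlerDifferential.mapBaseChange k₀ K L ω = 0
        rw [KaehlerDifferential.mapBaseChange_tmul, one_smul, KaehlerDifferential.map_D, ← hβ,
          Derivation.leibniz_pow, ← Nat.cast_smul_eq_nsmul L, CharP.cast_eq_zero L p, zero_smul]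
      have h0 : ((KaehlerDifferential.map k₀ (k i) K K).restrictScalars K).baseChange L ω = 0 := by
        rw [LinearMap.baseChange_tmul]
        have h1 : KaehlerDifferential.D (k i) K a = 0 := by
          rw [D_eq_zero_iff_mem p a]
          exact (mem_sup_PP_iff p (k i) a).mp (ha' i)
        have h2 : ((KaehlerDifferential.map k₀ (k i) K K).restrictScalars K)
            (KaehlerDifferential.D k₀ K a) = KaehlerDifferential.D (k i) K a :=
          KaehlerDifferential.map_D k₀ (k i) K K a
        rw [h2, h1, TensorProduct.tmul_zero]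
      have hω0 : ω = 0 := hi ω hω h0
      have hinj : Function.Injective (TensorProduct.mk K L Ω[K⁄k₀] 1) :=
        Module.Flat.tensorProduct_mk_injective (R := K) (S := L) (M := Ω[K⁄k₀])
      have hDa : KaehlerDifferential.D k₀ K a = 0 := hinj (hω0.trans (map_zero _).symm)
      rw [D_eq_zero_iff_mem p a] at hDa
      exact hna ((mem_PP_iff p k₀ K a).mpr hDa)
    · exact le_iInf fun i => le_sup_right

end

end Groth.Agent.H5.PK
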