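import Mathlib
import Groth.Prelude.Def_EGA41
import Groth.Agent.Lib.Helper5.Car.PK5
import Groth.Agent.Lib.Helper5.Car.PK6

set_option autoImplicit false
universe u

open EGA41 TensorProduct

namespace Groth.Agent.H5.PK

open H5.PB

section
variable (p : ℕ) [hpp : Fact p.Prime] {k₀ L : Type u} [Field k₀] [Field L] [Algebra k₀ L] [CharP L p]

/-- `k'(L^p) ⊆ F(L^p)` when `k' ⊆ image of F`. -/
theorem mem_pPowerSubalgebra_of_mem_sup (F : Type u) [Field F] [Algebra F L] [Algebra k₀ F]
    [IsScalarTower k₀ F L] (k' : IntermediateField k₀ L)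
    (hk' : ∀ z ∈ k', z ∈ Set.range (algebraMap F L)) (y : L)
    (hy : y ∈ k' ⊔ PP p (k₀ := k₀) (K := L)) : y ∈ pPowerSubalgebra p F L := by
  have hpow : ∀ z : L, z ^ p ∈ (pPowerSubalgebra p F L).toSubring := fun z =>
    Algebra.subset_adjoin ⟨z, rfl⟩
  let X : IntermediateField k₀ L :=
    Subalgebra.toIntermediateField ((pPowerSubalgebra p F L).restrictScalars k₀) (fun z hz =>
      (subfieldOfPow p (pPowerSubalgebra p F L).toSubring hpow).inv_mem hz)
  have h1 : k' ≤ X := by
    intro z hz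
    obtain ⟨c, rfl⟩ := hk' z hz
    exact (pPowerSubalgebra p F L).algebraMap_mem c
  have h2 : PP p (k₀ := k₀) (K := L) ≤ X := by
    rw [IntermediateField.adjoin_le_iff]
    rintro _ ⟨z, rfl⟩
    exact hpow z
  exact (sup_le h1 h2) hy

end

section
variable (p : ℕ) [hpp : Fact p.Prime] {k₀ K L : Type u} [Field k₀] [Field K] [Field L]
  [Algebra k₀ K] [Algebra K L] [Algebra k₀ L] [IsScalarTower k₀ K L] [CharP K p] [CharP L p]
  {ι : Type u} [Preorder ι] [IsDirected ι (· ≤ ·)] [Nonempty ι]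

theorem main4546 (k : ι → IntermediateField k₀ K) (hk : Antitone k)
    (h : (⨅ i, k i ⊔ IntermediateField.adjoin k₀ (Set.range fun y : K => y ^ p)) =
      IntermediateField.adjoin k₀ (Set.range fun y : K => y ^ p))
    [Module.Finite L (EGA41.imperfection k₀ K L)] :
    (⨅ i, (k i).map (IsScalarTower.toAlgHom k₀ K L) ⊔
        IntermediateField.adjoin k₀ (Set.range fun y : L => y ^ p)) =
      IntermediateField.adjoin k₀ (Set.range fun y : L => y ^ p) := by
  classical
  apply le_antisymm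
  swap
  · exact le_iInf fun i => le_sup_right
  intro y hy
  have hy' : y ∈ ((⨅ i, (k i).map (IsScalarTower.toAlgHom k₀ K L) ⊔
      IntermediateField.adjoin k₀ (Set.range fun y : L => y ^ p) : IntermediateField k₀ L) : Set L) := hy
  rw [IntermediateField.coe_iInf, Set.mem_iInter] at hy'
  -- Step A: the differentials of `y` over `k i` and over `K` vanish
  have hA : ∀ i, KaehlerDifferential.D (k i) L y = 0 := by
    intro i
    rw [D_eq_zero_iff_mem p y]
    refine mem_pPowerSubalgebra_of_mem_sup p (k i) _ ?_ y (hy' i)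
    rintro z ⟨w, hw, rfl⟩
    exact ⟨⟨w, hw⟩, rfl⟩
  have hAK : KaehlerDifferential.D K L y = 0 := by
    rw [D_eq_zero_iff_mem p y]
    obtain ⟨i⟩ := (inferInstance : Nonempty ι)
    refine mem_pPowerSubalgebra_of_mem_sup p K _ ?_ y (hy' i)
    rintro z ⟨w, _, rfl⟩
    exact ⟨w, rfl⟩
  -- Step B
  set ω := KaehlerDifferential.D k₀ L y with hω
  have hB : KaehlerDifferential.map k₀ K L L ω = 0 := by
    rw [hω, KaehlerDifferential.map_D]
    exact hAK
  obtain ⟨η, hη⟩ := (KaehlerDifferential.exact_mapBaseChange_map k₀ K L ω).mp hB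
  -- Step C
  obtain ⟨B, hBas⟩ := exists_pBasis p (k := k₀) (K := K)
  obtain ⟨bΩ, hbΩ⟩ := main2466 p (Subtype.val : B → K) hBas
  have hLI := linearIndependent_D p (Subtype.val : B → K) hBas
  let bL : Module.Basis B L (L ⊗[K] Ω[K⁄k₀]) := bΩ.baseChange L
  have hbL : ∀ b : B, bL b = (1 : L) ⊗ₜ[K] KaehlerDifferential.D k₀ K (b : K) := by
    intro b
    rw [Module.Basis.baseChange_apply, hbΩ]
  have hfg : (EGA41.imperfection k₀ K L).FG := Module.Finite.iff_fg.mp inferInstance
  obtain ⟨S, hS⟩ := hfg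
  let G : Finset B := (S.biUnion fun s => (bL.repr s).support) ∪ (bL.repr η).support
  have hmemV : ∀ s : L ⊗[K] Ω[K⁄k₀], (bL.repr s).support ⊆ G →
      s ∈ Submodule.span L (Set.range fun b : G =>
        (1 : L) ⊗ₜ[K] KaehlerDifferential.D k₀ K ((b : B) : K)) := by
    intro s hs
    have h1 := bL.mem_span_repr_support s
    refine Submodule.span_mono ?_ h1
    rintro _ ⟨b, hb, rfl⟩
    exact ⟨⟨b, hs hb⟩, (hbL b).symm⟩
  have hsub : EGA41.imperfection k₀ K L ≤ Submodule.span L (Set.range fun b : G =>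
      (1 : L) ⊗ₜ[K] KaehlerDifferential.D k₀ K ((b : B) : K)) := by
    rw [← hS, Submodule.span_le]
    intro s hs
    refine hmemV s ?_
    intro b hb
    exact Finset.mem_union_left _ (Finset.mem_biUnion.mpr ⟨s, hs, hb⟩)
  have hηV : η ∈ Submodule.span L (Set.range fun b : G =>
      (1 : L) ⊗ₜ[K] KaehlerDifferential.D k₀ K ((b : B) : K)) :=
    hmemV η (fun b hb => Finset.mem_union_right _ hb)
  -- Step D
  have hxG : IsPIndependent p k₀ (fun b : G => ((b : B) : K)) := by
    apply isPIndependent_of_linearIndependent_D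
    exact hLI.comp (fun b : G => (b : B)) Subtype.val_injective
  obtain ⟨i₀, hi₀⟩ := exists_isPIndependent' p k hk h (fun b : G => ((b : B) : K)) hxG
  -- Step E
  have hE : KaehlerDifferential.mapBaseChange (k i₀) K L (rho k₀ (k i₀) K L η) = 0 := by
    rw [mapBaseChange_rho, hη, hω, KaehlerDifferential.map_D]
    exact hA i₀
  obtain ⟨ζ, hζ1, hζ2⟩ := exists_mem_ker_rho_eq k₀ (k i₀) K L _ hE
  have hζΥ : ζ ∈ EGA41.imperfection k₀ K L := hζ1
  -- Step F
  have hdiff : η - ζ = 0 := by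
    refine baseChange_map_injOn_span' p (k i₀) (fun b : G => ((b : B) : K)) hi₀ (η - ζ)
      (Submodule.sub_mem _ hηV (hsub hζΥ)) ?_
    show rho k₀ (k i₀) K L (η - ζ) = 0
    rw [map_sub, hζ2, sub_self]
  -- Step G
  have hηζ : η = ζ := sub_eq_zero.mp hdiff
  have hω0 : ω = 0 := by rw [← hη, hηζ]; exact hζ1
  rw [hω, D_eq_zero_iff_mem p y] at hω0
  exact (mem_PP_iff p k₀ L y).mpr hω0

end

end Groth.Agent.H5.PK
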